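import Cfsg.Agent.Lib.Bender.Q.Semi.Transfer
import Mathlib.GroupTheory.Perm.Sign

/-!
The case without full involutions and with one member at a point in a centraliser is impossible: there are three members
at a point and the sign of the action on them transfers.

Blueprint: `blueprint/bender/Q2.md` III.
-/

set_option autoImplicit false
set_option linter.unusedSectionVars false
set_option linter.style.haveILetI false

universe u v

namespace CfsgLib.Bender.Q

open MulAction
open CfsgLib.Bender.TwoClosed (IsInv two mem_two smul_conj)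

variable {G Ω : Type u} [Group G] [MulAction G Ω] [Finite G] [FaithfulSMul G Ω] {Z : Set G}

theorem false_of_semi_one (hX : Ctx G Ω Z) (hS : Semi G Ω Z) {u : G} (hu : IsB Ω u) {a : Ω} (hua : u • a = a)
    (he : eAt Z u a = 1) : False := by
  classical
  have hQ := hX.hyp
  have hui := hu.1
  obtain ⟨z, hzs⟩ := Set.ncard_eq_one.mp he
  obtain ⟨hz, huz, hza⟩ : z ∈ eSet Z u a := hzs.ge rfl
  have honly : ∀ {w : G}, IsB Ω w → w • a = a → ∀ {x y : G}, x ∈ eSet Z w a → y ∈ eSet Z w a → x = y := by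
    intro w hw hwa x y hx hy
    have h1 : eAt Z w a = 1 := (hS.eAt_const hX hw hu hwa hua).trans he
    obtain ⟨t, ht⟩ := Set.ncard_eq_one.mp h1
    rw [ht] at hx hy
    exact (Set.mem_singleton_iff.mp hx).trans (Set.mem_singleton_iff.mp hy).symm
  have hzmem : z ∈ eSet Z u a := ⟨hz, huz, hza⟩
  have hcz : ∀ y ∈ Z, y • a = a → y * z = z * y := by
    intro y hy hya
    have hyi := hQ.inv y hy
    rcases Nat.even_or_odd (orderOf (u * y)) with hev | hodd
    swap
    · exfalso
      obtain ⟨n, hn⟩ := exists_pow_conj hyi hui hodd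
      obtain ⟨-, p, q, hpq, hp, hq⟩ := hu
      exact hpq (eq_of_fix hQ (hn ▸ hQ.conj y hy _) hp hq)
    obtain ⟨hwu, hwy⟩ := CfsgLib.Involutions.central_half hui.2 hyi.2 hev
    obtain ⟨hw2, hw1⟩ := CfsgLib.Involutions.orderOf_eq_two_iff'.mp (CfsgLib.Involutions.orderOf_half hev)
    set w := (u * y) ^ (orderOf (u * y) / 2)
    have hwa : w • a = a :=
      mem_stabilizer_iff.mp (pow_mem (mem_stabilizer_iff.mpr (by rw [mul_smul, hya, hua])) _)
    rcases isB_or_mem hX ⟨hw1, hw2⟩ hwa with hwB | hwZ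
    swap
    · rw [honly hu hua hzmem ⟨hwZ, hwu.eq.symm, hwa⟩]
      exact hwy.eq.symm
    rcases eq_or_ne u w with e | hne
    · have : y ∈ eSet Z u a := ⟨hy, by rw [e]; exact hwy.eq, hya⟩
      rw [honly hu hua this hzmem]
    · have hx := hS.neighbour hX hu hwB hua hwa hne hwu.eq.symm
      have hxa : (u * w) • a = a := by rw [mul_smul, hwa, hua]
      have hxu : u * (u * w) = u * w * u := by rw [mul_assoc, hwu.eq]
      have hxw : w * (u * w) = u * w * w := by rw [← mul_assoc, hwu.eq]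
      have e1 : u * w = z := honly hu hua ⟨hx, hxu, hxa⟩ hzmem
      have e2 : u * w = y := honly hwB hwa ⟨hx, hxw, hxa⟩ ⟨hy, hwy.eq, hya⟩
      rw [← e1, ← e2]
  have hab : ∀ x ∈ Z, x • a = a → ∀ y ∈ Z, y • a = a → x * y = y * x := by
    intro x hx hxa y hy hya
    obtain ⟨g, hg⟩ := exists_conj hQ hz hx
    have hga : g • a = a := eq_of_fix hQ hx (hg ▸ smul_conj hza) hxa
    have h := hcz (g⁻¹ * y * g⁻¹⁻¹) (hQ.conj y hy _) (by
      rw [mul_smul, mul_smul, inv_inv, hga, hya, inv_smul_eq_iff, hga])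
    rw [← hg]
    calc g * z * g⁻¹ * y = g * (z * (g⁻¹ * y * g⁻¹⁻¹)) * g⁻¹ := by group
      _ = g * ((g⁻¹ * y * g⁻¹⁻¹) * z) * g⁻¹ := by rw [h]
      _ = y * (g * z * g⁻¹) := by group
  have huconj : ∀ {y : G}, y ∈ Z → y • a = a → u * y * u ∈ Z ∧ (u * y * u) • a = a := fun {y} hy hya =>
    ⟨by have := hQ.conj y hy u; rwa [hui.inv] at this, by rw [mul_smul, mul_smul, hua, hya, hua]⟩
  have hswap : ∀ y ∈ Z, y • a = a → y ≠ z → u * y * u = y * z := by
    intro y hy hya hyz
    obtain ⟨hy', hy'a⟩ := huconj hy hya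
    have hne : y ≠ u * y * u := fun e => hyz (honly hu hua ⟨hy, (conj_eq_self_iff hui.2).mp e.symm, hya⟩ hzmem)
    have hc := hab y hy hya _ hy' hy'a
    have hmem : y * (u * y * u) ∈ eSet Z u a := by
      refine ⟨prod_mem hQ hy hy' hne hc, ?_, by rw [mul_smul, hy'a, hya]⟩
      rw [← conj_eq_self_iff hui.2]
      calc u * (y * (u * y * u)) * u = (u * y * u) * y * (u * u) := by group
        _ = y * (u * y * u) := by rw [hui.2, mul_one, hc]
    rw [← honly hu hua hmem hzmem, ← mul_assoc, (hQ.inv y hy).2, one_mul]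
  obtain ⟨y, hy, hya, hyz⟩ : ∃ y ∈ Z, y • a = a ∧ y ≠ z := by
    haveI : Nontrivial (MemAt Z a) := Finite.one_lt_card_iff_nontrivial.mp (hX.two_le_memAt a)
    obtain ⟨⟨y, hy, hya⟩, hne⟩ := exists_ne (⟨z, hz, hza⟩ : MemAt Z a)
    exact ⟨y, hy, hya, fun e => hne (Subtype.ext e)⟩
  have hyzZ : y * z ∈ Z ∧ (y * z) • a = a := hswap y hy hya hyz ▸ huconj hy hya
  have hthree : ∀ t ∈ Z, t • a = a → t = z ∨ t = y ∨ t = y * z := by
    intro t ht hta
    by_cases h1 : t = z
    · exact Or.inl h1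
    by_cases h2 : t = y
    · exact Or.inr (Or.inl h2)
    refine Or.inr (Or.inr ?_)
    have hc := hab y hy hya t ht hta
    have hmem : y * t ∈ eSet Z u a := by
      refine ⟨prod_mem hQ hy ht (Ne.symm h2) hc, ?_, by rw [mul_smul, hta, hya]⟩
      rw [← conj_eq_self_iff hui.2]
      calc u * (y * t) * u = u * y * (u * u) * t * u := by rw [hui.2]; group
        _ = (u * y * u) * (u * t * u) := by group
        _ = y * (z * t) * z := by rw [hswap y hy hya hyz, hswap t ht hta h1]; group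
        _ = y * t * (z * z) := by rw [hab z hz hza t ht hta]; group
        _ = y * t := by rw [(hQ.inv z hz).2, mul_one]
    have e := honly hu hua hmem hzmem
    rw [← e, ← mul_assoc, (hQ.inv y hy).2, one_mul]
  -- the sign of the action on the members at `a`
  have hmaps : ∀ (g : stabilizer G a) (x : MemAt Z a),
      (g : G) * x.1 * (g : G)⁻¹ ∈ Z ∧ ((g : G) * x.1 * (g : G)⁻¹) • a = a := fun g x => by
    refine ⟨hQ.conj _ x.2.1 _, ?_⟩
    have := smul_conj (g := (g : G)) x.2.2
    rwa [mem_stabilizer_iff.mp g.2] at this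
  letI : MulAction (stabilizer G a) (MemAt Z a) :=
    { smul := fun g x => ⟨_, hmaps g x⟩
      one_smul := fun x => Subtype.ext (show (1 : G) * x.1 * (1 : G)⁻¹ = x.1 by group)
      mul_smul := fun g h x => Subtype.ext (show ((g : G) * h) * x.1 * ((g : G) * h)⁻¹ =
        (g : G) * ((h : G) * x.1 * (h : G)⁻¹) * (g : G)⁻¹ by group) }
  haveI := Fintype.ofFinite (MemAt Z a)
  let χ : stabilizer G a →* ℤˣ := Equiv.Perm.sign.comp (MulAction.toPermHom (stabilizer G a) (MemAt Z a))
  refine false_of_hom hX χ ?_ hu hua (fun v hv => hS.one_class u v hu hv) ?_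
  · intro t ht hta
    show Equiv.Perm.sign (MulAction.toPerm (⟨t, hta⟩ : stabilizer G a)) = 1
    rw [show MulAction.toPerm (⟨t, hta⟩ : stabilizer G a) = (1 : Equiv.Perm (MemAt Z a)) from
      Equiv.ext fun x => Subtype.ext (by
        show t * x.1 * t⁻¹ = x.1
        rw [hab t ht hta x.1 x.2.1 x.2.2, mul_inv_cancel_right]), map_one]
  · show Equiv.Perm.sign (MulAction.toPerm (⟨u, hua⟩ : stabilizer G a)) ≠ 1
    have hne : (⟨y, hy, hya⟩ : MemAt Z a) ≠ ⟨y * z, hyzZ⟩ := fun e =>
      (hQ.inv z hz).1 (mul_eq_left.mp (congrArg Subtype.val e).symm)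
    rw [show MulAction.toPerm (⟨u, hua⟩ : stabilizer G a) =
        Equiv.swap (⟨y, hy, hya⟩ : MemAt Z a) ⟨y * z, hyzZ⟩ from ?_, Equiv.Perm.sign_swap hne]
    · decide
    refine Equiv.ext fun ⟨t, ht, hta⟩ => Subtype.ext ?_
    show u * t * u⁻¹ = _
    rw [hui.inv]
    rcases hthree t ht hta with h1 | h1 | h1 <;> subst h1
    · rw [Equiv.swap_apply_of_ne_of_ne (fun e => hyz (congrArg Subtype.val e).symm)
        (fun e => (hQ.inv y hy).1 (mul_eq_right.mp (congrArg Subtype.val e).symm))]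
      exact (conj_eq_self_iff hui.2).mpr huz
    · rw [Equiv.swap_apply_left]
      exact hswap _ hy hya hyz
    · rw [Equiv.swap_apply_right]
      show u * (y * z) * u = y
      rw [← hswap y hy hya hyz]
      calc u * (u * y * u) * u = (u * u) * y * (u * u) := by group
        _ = y := by rw [hui.2, one_mul, mul_one]

end CfsgLib.Bender.Q
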