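import Cfsg.Agent.Lib.Bender.Q.Semi.Elementary

/-!
In the semilinear case an element of order four over `u` moves a member at `a` commuting with `u`; hence two such
elements do not generate a quaternion group.

Blueprint: `blueprint/bender/Q2.md` IV.2.
-/

set_option autoImplicit false
set_option linter.unusedSectionVars false
set_option linter.style.haveILetI false

universe u

namespace CfsgLib.Bender.Q

open MulAction
open CfsgLib.Bender.TwoClosed (IsInv two mem_two smul_conj mem_normalizer_of_conj conj_mem_of_normalizer)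

variable {G Ω : Type u} [Group G] [MulAction G Ω] [Finite G] [FaithfulSMul G Ω] {Z : Set G} (hX : Ctx G Ω Z)
  (hS : Semi G Ω Z) {i : ℕ} (hn : Nat.card Ω = 2 ^ i + 1)
include hX hS hn

/-- An element squaring to `u` moves a member at `a` commuting with `u`. -/
theorem exists_moved_of_sq {u x : G} (hu : IsB Ω u) {a : Ω} (hua : u • a = a) (hxx : x * x = u) (hxa : x • a = a) :
    ∃ z ∈ eSet Z u a, x * z ≠ z * x := by
  have hQ := hX.hyp
  by_contra hcon
  push Not at hcon
  have hui := hu.1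
  have hxinv : x⁻¹ • a = a := inv_smul_eq_iff.mpr hxa.symm
  have hall : ∀ e ∈ Z, e • a = a → u * e = e * u := by
    intro e he hea
    have hei := hQ.inv e he
    set d := e * (x * e * x⁻¹) with hd
    have hxe : x * e * x⁻¹ ∈ Z ∧ (x * e * x⁻¹) • a = a :=
      ⟨hQ.conj e he x, by rw [mul_smul, mul_smul, hxinv, hea, hxa]⟩
    have huu : x * (x * e * x⁻¹) * x⁻¹ = u * e * u := by
      calc x * (x * e * x⁻¹) * x⁻¹ = (x * x) * e * (x * x)⁻¹ := by group
        _ = u * e * u := by rw [hxx, hui.inv]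
    rcases eq_or_ne e (x * e * x⁻¹) with hee | hne
    · rw [← conj_eq_self_iff hui.2, ← huu, ← hee, ← hee]
    have hdZ : d ∈ Z ∧ d • a = a := ⟨prod_mem hQ he hxe.1 hne (hS.commute_members hX hn he hea hxe.1 hxe.2),
      by rw [hd, mul_smul, hxe.2, hea]⟩
    have hxd : d * (x * d * x⁻¹) = e * (u * e * u) := by
      have hq : x * d * x⁻¹ = (x * e * x⁻¹) * (u * e * u) := by
        rw [hd, ← huu]; group
      rw [hq, hd]
      calc e * (x * e * x⁻¹) * ((x * e * x⁻¹) * (u * e * u))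
          = e * ((x * e * x⁻¹) * (x * e * x⁻¹)) * (u * e * u) := by group
        _ = e * (u * e * u) := by rw [(hQ.inv _ hxe.1).2, mul_one]
    have hueu : u * e * u ∈ Z ∧ (u * e * u) • a = a := ⟨by
      have := hQ.conj e he u
      rwa [hui.inv] at this, by rw [mul_smul, mul_smul, hua, hea, hua]⟩
    by_contra hcomm
    have hne' : e ≠ u * e * u := fun h => hcomm ((conj_eq_self_iff hui.2).mp h.symm)
    have hc := hS.commute_members hX hn he hea hueu.1 hueu.2
    have hd2 : e * (u * e * u) ∈ eSet Z u a := ⟨prod_mem hQ he hueu.1 hne' hc, by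
      calc u * (e * (u * e * u)) = (u * e * u) * e * u := by group
        _ = e * (u * e * u) * u := by rw [← hc], by rw [mul_smul, hueu.2, hea]⟩
    have hfix : x * (e * (u * e * u)) * x⁻¹ = e * (u * e * u) := by
      rw [hcon _ hd2, mul_inv_cancel_right]
    rw [← hxd] at hfix
    have hxdZ : x * d * x⁻¹ ∈ Z ∧ (x * d * x⁻¹) • a = a :=
      ⟨hQ.conj d hdZ.1 x, by rw [mul_smul, mul_smul, hxinv, hdZ.2, hxa]⟩
    have h1 : x * (x * d * x⁻¹) * x⁻¹ = d := by
      have h2 : x * d * x⁻¹ * (x * (x * d * x⁻¹) * x⁻¹) = x * d * x⁻¹ * d := by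
        rw [conj_mul, hfix]
        exact hS.commute_members hX hn hdZ.1 hdZ.2 hxdZ.1 hxdZ.2
      exact mul_left_cancel h2
    have hud : u * d = d * u := by
      rw [← conj_eq_self_iff hui.2]
      nth_rewrite 2 [← h1]
      calc u * d * u = (x * x) * d * (x * x)⁻¹ := by rw [hxx, hui.inv]
        _ = _ := by group
    have hdx : x * d * x⁻¹ = d := by rw [hcon d ⟨hdZ.1, hud, hdZ.2⟩, mul_inv_cancel_right]
    have : e * (u * e * u) = 1 := by rw [← hxd, hdx, (hQ.inv d hdZ.1).2]
    exact hne' ((mul_eq_one_iff_inv_eq.mp this).symm.trans hei.inv).symm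
  refine hS.notFull u hu ((full_iff hX hu hua).mpr ?_)
  rw [eAt, eSet, show Nat.card (MemAt Z a) = {z : G | z ∈ Z ∧ z • a = a}.ncard from Nat.card_coe_set_eq _]
  congr 1
  ext z
  exact ⟨fun h => ⟨h.1, h.2.2⟩, fun h => ⟨h.1, hall z h.1 h.2, h.2⟩⟩

omit hX hS hn [Finite G] [FaithfulSMul G Ω] in
theorem eq_two_of_sq {s p : ℕ} (hs : 0 < s) (hp : p ≠ 1) (hle : s * p + 1 ≤ (s + 1) ^ 2)
    (hdvd : s + 1 ∣ s * p + 1) : p = s + 2 := by
  rcases p with _ | _ | q
  · rw [mul_zero] at hdvd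
    have := Nat.le_of_dvd one_pos hdvd
    omega
  · exact absurd rfl hp
  · have h1 : s + 1 ∣ q + 1 := by
      have h2 : s + 1 ∣ (s + 1) * (q + 1 + 1) := dvd_mul_right _ _
      rw [show (s + 1) * (q + 1 + 1) = s * (q + 1 + 1) + 1 + (q + 1) by ring] at h2
      exact (Nat.dvd_add_right hdvd).mp h2
    have h3 := Nat.le_of_dvd (Nat.succ_pos q) h1
    have h4 : q + 1 + 1 ≤ s + 2 :=
      Nat.le_of_mul_le_mul_left (show s * (q + 1 + 1) ≤ s * (s + 2) by linarith) hs
    omega

/-- Two elements squaring to `u` in a 2-group fixing two points generate no quaternion group. -/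
theorem false_of_quaternion {u : G} (hu : IsB Ω u) {a b : Ω} (hb : b ≠ a) {T : Subgroup G} (hT : IsPGroup 2 T)
    (hTD : T ≤ two a b) {x y : G} (hxT : x ∈ T) (hyT : y ∈ T) (hxx : x * x = u) (hyy : y * y = u)
    (hxy : x * y = y * x * u) : False := by
  have hQ := hX.hyp
  have hui := hu.1
  obtain ⟨c, hc, hca, hcT⟩ := exists_swap_cent hQ hT hb (fun t ht => (mem_two.mp (hTD ht)).1)
    fun t ht => (mem_two.mp (hTD ht)).2
  obtain ⟨j, hj, hja, hjT⟩ := hQ.two_cent T a hT fun t ht => (mem_two.mp (hTD ht)).1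
  have huT : u ∈ T := hxx ▸ T.mul_mem hxT hxT
  obtain ⟨hua, hub⟩ := mem_two.mp (hTD huT)
  have hci := hQ.inv c hc
  have hux : u * x = x * u := by rw [← hxx, mul_assoc]
  have huy : u * y = y * u := by rw [← hyy, mul_assoc]
  obtain ⟨z, hz⟩ : ∃ w : G, w = x * y := ⟨_, rfl⟩
  have hzT : z ∈ T := hz ▸ T.mul_mem hxT hyT
  have huz : u * z = z * u := hz ▸ ((show Commute u x from hux).mul_right huy).eq
  have hzz : z * z = u := by
    calc z * z = x * (y * x) * y := by rw [hz]; group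
      _ = x * (x * y * u) * y := by
          rw [hxy, show y * x * u * u = y * x * (u * u) by group, hui.2, mul_one]
      _ = (x * x) * (y * (u * y)) := by group
      _ = u * (y * y * u) := by rw [hxx, huy, mul_assoc y y u]
      _ = u := by rw [hyy, hui.2, mul_one]
  set O := oddRad (two a b : Subgroup G)
  set K := O ⊓ Subgroup.centralizer ({u} : Set G)
  have hKodd : Odd (Nat.card K) := (odd_oddRad _).of_dvd_nat (Subgroup.card_dvd_of_le inf_le_left)
  have hKu : ∀ k ∈ K, u * k = k * u := fun k hk => mem_cent_iff.mp hk.2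
  have hnK : ∀ v ∈ T, u * v = v * u → v ∈ Subgroup.normalizer (K : Set G) := fun v hv huv =>
    mem_normalizer_inf_centralizer (le_normalizer_oddRad _ (Subgroup.le_normalizer (hTD hv))) huv
  have hsqK : ∀ v : G, v * v = u → ∀ k ∈ K, v * (v * k * v⁻¹) * v⁻¹ = k := fun v hv k hk => by
    calc v * (v * k * v⁻¹) * v⁻¹ = (v * v) * k * (v * v)⁻¹ := by group
      _ = k := by rw [hv, hKu k hk, mul_inv_cancel_right]
  set J : (G → Prop) → ℕ := fun P => {k | k ∈ K ∧ c * k * c = k⁻¹ ∧ P k}.ncard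
  have hJ : ∀ {P P' : G → Prop}, (∀ k ∈ K, c * k * c = k⁻¹ → (P k ↔ P' k)) → J P = J P' := fun {P P'} h => by
    show Set.ncard _ = Set.ncard _
    congr 1
    ext k
    exact and_congr_right fun h1 => and_congr_right fun h2 => h k h1 h2
  have hswap : ∀ v ∈ T, ∀ k, c * k * c = k⁻¹ → (v * k = k * v ↔ v * (k * c) = k * c * v) := fun v hv k _ => by
    constructor
    · intro h
      exact ((show Commute v k from h).mul_right (hcT v hv)).eq
    · intro h
      have := ((show Commute v (k * c) from h).mul_right (show Commute v c from hcT v hv)).eq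
      rwa [mul_assoc, hci.2, mul_one] at this
  have heJ : eAt Z u b = J fun _ => True := by
    rw [← sAt_eq_eAt hQ hui hb hua]
    refine (ncard_swap_eq hQ hb hc hca (fun w => u * w = w * u) (fun k => u * k = k * u) (hswap u huT)).trans ?_
    congr 1
    ext k
    exact ⟨fun ⟨h1, h2, h3⟩ => ⟨⟨h1, mem_cent_iff.mpr h3⟩, h2, trivial⟩,
      fun ⟨h1, h2, _⟩ => ⟨h1.1, h2, mem_cent_iff.mp h1.2⟩⟩
  have hodd : Odd (J fun _ => True) := heJ ▸ odd_eAt hQ hui hub
  -- a single element of order four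
  have hone : ∀ v ∈ T, v * v = u → (J fun _ => True) = J (fun k => v * k * v⁻¹ = k) * J (fun k => v * k * v⁻¹ = k⁻¹) ∧
      J (fun k => v * k * v⁻¹ = k⁻¹) = J (fun k => v * k * v⁻¹ = k) + 2 := by
    intro v hv hvv
    have huv : u * v = v * u := by rw [← hvv, mul_assoc]
    obtain ⟨hva, hvb⟩ := mem_two.mp (hTD hv)
    have hsplit : (J fun _ => True) = J (fun k => v * k * v⁻¹ = k) * J (fun k => v * k * v⁻¹ = k⁻¹) := by
      have h := ncard_inverted_split_aut hKodd hci.2 (hcT v hv).symm (hnK v hv huv) (hsqK v hvv)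
      show Set.ncard _ = _
      simp only [and_true]
      exact h
    refine ⟨hsplit, ?_⟩
    have hs : J (fun k => v * k * v⁻¹ = k) = {w | w ∈ eSet Z u b ∧ v * w = w * v}.ncard := by
      rw [← sAt2_eq hQ hb hj hja (hjT u huT) (hjT v hv)]
      refine Eq.trans ?_ (ncard_swap_eq hQ hb hc hca (fun w => u * w = w * u ∧ v * w = w * v)
        (fun k => u * k = k * u ∧ v * k = k * v) fun k hk => and_congr (hswap u huT k hk) (hswap v hv k hk)).symm
      show Set.ncard _ = Set.ncard _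
      congr 1
      ext k
      exact ⟨fun ⟨h1, h2, h3⟩ => ⟨h1.1, h2, mem_cent_iff.mp h1.2, mul_inv_eq_iff_eq_mul.mp h3⟩,
        fun ⟨h1, h2, h3, h4⟩ => ⟨⟨h1, mem_cent_iff.mpr h3⟩, h2, mul_inv_eq_iff_eq_mul.mpr h4⟩⟩
    obtain ⟨w, hw, hvw⟩ := exists_moved_of_sq hX hS hn hu hub hvv hvb
    obtain ⟨hle, hdvd⟩ := eAt_succ_le_sq_aut hX hu hub hvb huv (w := v)
      (fun t ht => by rw [hvv]; exact ht.2.1)
    rw [← hs, heJ, hsplit] at hle hdvd
    refine eq_two_of_sq ?_ ?_ hle hdvd
    · have := hsplit ▸ hodd.pos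
      exact Nat.pos_of_mul_pos_right this
    · intro hp1
      have hlt : {t | t ∈ eSet Z u b ∧ v * t = t * v}.ncard < eAt Z u b :=
        Set.ncard_lt_ncard ⟨fun t ht => ht.1, fun h => hvw (h hw).2⟩ (Set.toFinite _)
      rw [← hs, heJ, hsplit, hp1, mul_one] at hlt
      exact lt_irrefl _ hlt
  -- splitting by one element inside the part fixed by another
  have hsub : ∀ (w v : G), v ∈ T → v * v = u → v * w * v⁻¹ = w * u → u * w = w * u →
      J (fun k => w * k = k * w) = J (fun k => w * k = k * w ∧ v * k * v⁻¹ = k) *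
        J (fun k => w * k = k * w ∧ v * k * v⁻¹ = k⁻¹) := by
    intro w v hv hvv hvw huw
    have huv : u * v = v * u := by rw [← hvv, mul_assoc]
    have hn' : v ∈ Subgroup.normalizer ((K ⊓ Subgroup.centralizer ({w} : Set G) : Subgroup G) : Set G) := by
      refine mem_normalizer_of_conj fun k hk => ⟨conj_mem_of_normalizer (hnK v hv huv) hk.1, mem_cent_iff.mpr ?_⟩
      have h1 : Commute (v * w * v⁻¹) (v * k * v⁻¹) := by
        show _ = _
        rw [conj_mul, conj_mul, mem_cent_iff.mp hk.2]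
      have h2 : Commute u (v * k * v⁻¹) := hKu _ (conj_mem_of_normalizer (hnK v hv huv) hk.1)
      rw [hvw] at h1
      have h3 := h1.mul_left h2
      rw [mul_assoc, hui.2, mul_one] at h3
      exact h3
    have h := ncard_inverted_split_aut (hKodd.of_dvd_nat (Subgroup.card_dvd_of_le inf_le_left)) hci.2
      (hcT v hv).symm hn' fun k hk => hsqK v hvv k hk.1
    have e : ∀ P : G → Prop, {k | k ∈ K ⊓ Subgroup.centralizer ({w} : Set G) ∧ c * k * c = k⁻¹ ∧ P k}.ncard =
        J fun k => w * k = k * w ∧ P k := fun P => by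
      show Set.ncard _ = Set.ncard _
      congr 1
      ext k
      exact ⟨fun ⟨⟨h1, h2⟩, h3, h4⟩ => ⟨h1, h3, mem_cent_iff.mp h2, h4⟩,
        fun ⟨h1, h3, h2, h4⟩ => ⟨⟨h1, mem_cent_iff.mpr h2⟩, h3, h4⟩⟩
    rw [e, e] at h
    rw [← h]
    show Set.ncard _ = Set.ncard _
    congr 1
    ext k
    exact ⟨fun ⟨h1, h2, h3⟩ => ⟨⟨h1, mem_cent_iff.mpr h3⟩, h2⟩,
      fun ⟨⟨h1, h3⟩, h2⟩ => ⟨h1, h2, mem_cent_iff.mp h3⟩⟩
  have hyx : y * x * y⁻¹ = x * u := by
    calc y * x * y⁻¹ = y * x * (u * u) * y⁻¹ := by rw [hui.2, mul_one]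
      _ = (y * x * u) * (u * y⁻¹) := by group
      _ = x * y * (y⁻¹ * u) := by rw [← hxy, (show Commute u y from huy).inv_right.eq]
      _ = x * u := by group
  have hxz : x * z * x⁻¹ = z * u := by
    calc x * z * x⁻¹ = x * (x * y) * x⁻¹ := by rw [hz]
      _ = x * (y * x * u) * x⁻¹ := by rw [hxy]
      _ = (x * y) * (x * u * x⁻¹) := by group
      _ = z * u := by rw [← hux, mul_inv_cancel_right, hz]
  have hxy' : x * y * x⁻¹ = y * u := by
    rw [hxy, mul_assoc y x u, ← hux, ← mul_assoc y u x, mul_inv_cancel_right]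
  have hyc : Commute y c := hcT y hyT
  have hcx : y * (c * x) * y⁻¹ = c * x * u := by
    calc y * (c * x) * y⁻¹ = (y * c * y⁻¹) * (y * x * y⁻¹) := conj_mul.symm
      _ = c * x * u := by rw [hyc.eq, mul_inv_cancel_right, hyx, mul_assoc]
  have hfix : ∀ v k : G, (v * k = k * v ↔ v * k * v⁻¹ = k) := fun v k => mul_inv_eq_iff_eq_mul.symm
  have hzk : ∀ k : G, z * k * z⁻¹ = x * (y * k * y⁻¹) * x⁻¹ := fun k => by rw [hz]; group
  have hX2 := hsub x y hyT hyy hyx hux
  have hY2 := hsub y x hxT hxx hxy' huy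
  have hZ2 := hsub z x hxT hxx hxz huz
  have hM2 := hsub (c * x) y hyT hyy hcx ((show Commute u c from hcT u huT).mul_right hux).eq
  have hinv : ∀ k ∈ K, c * k * c = k⁻¹ → (c * x * k = k * (c * x) ↔ x * k * x⁻¹ = k⁻¹) := fun k _ hk => by
    constructor
    · intro h
      calc x * k * x⁻¹ = c * (c * x * k) * x⁻¹ := by rw [← mul_assoc, ← mul_assoc, hci.2, one_mul]
        _ = c * (k * (c * x)) * x⁻¹ := by rw [h]
        _ = k⁻¹ := by rw [← hk]; group
    · intro h
      calc c * x * k = c * (x * k * x⁻¹) * x := by group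
        _ = c * (c * k * c) * x := by rw [h, hk]
        _ = k * (c * x) := by rw [← mul_assoc, ← mul_assoc, hci.2, one_mul, mul_assoc]
  set q := J fun k => x * k * x⁻¹ = k ∧ y * k * y⁻¹ = k
  set A := J fun k => x * k * x⁻¹ = k ∧ y * k * y⁻¹ = k⁻¹
  set B := J fun k => x * k * x⁻¹ = k⁻¹ ∧ y * k * y⁻¹ = k
  set C := J fun k => x * k * x⁻¹ = k⁻¹ ∧ y * k * y⁻¹ = k⁻¹
  have eX : J (fun k => x * k * x⁻¹ = k) = q * A := by
    rw [hJ fun k _ _ => (hfix x k).symm, hX2]
    congr 1 <;> exact hJ fun k _ _ => and_congr_left' (hfix x k)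
  have eY : J (fun k => y * k * y⁻¹ = k) = q * B := by
    rw [hJ fun k _ _ => (hfix y k).symm, hY2]
    congr 1 <;> exact hJ fun k _ _ => by rw [hfix y k, and_comm]
  have eZ : J (fun k => z * k * z⁻¹ = k) = q * C := by
    rw [hJ fun k _ _ => (hfix z k).symm, hZ2]
    congr 1
    · exact hJ fun k hk _ => by
        rw [hfix z k, hzk, and_comm]
        refine and_congr_right fun h => ⟨fun h' => ?_, fun h' => by rw [h', h]⟩
        exact conj_injective (h'.trans h.symm)
    · exact hJ fun k hk _ => by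
        rw [hfix z k, hzk, and_comm]
        refine and_congr_right fun h => ⟨fun h' => ?_, fun h' => ?_⟩
        · exact conj_injective (x := x) (by simp only; rw [h', ← conj_inv, h, inv_inv])
        · rw [h', ← conj_inv, h, inv_inv]
  have eM : J (fun k => x * k * x⁻¹ = k⁻¹) = B * C := by
    rw [← hJ hinv, hM2]
    congr 1 <;> exact hJ fun k h1 h2 => and_congr_left' (hinv k h1 h2)
  obtain ⟨hx1, hx2⟩ := hone x hxT hxx
  obtain ⟨hy1, hy2⟩ := hone y hyT hyy
  obtain ⟨hz1, hz2⟩ := hone z hzT hzz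
  rw [eX] at hx1 hx2
  rw [eY] at hy1 hy2
  rw [eZ] at hz1 hz2
  rw [hy2] at hy1
  rw [hz2] at hz1
  rw [hx2] at hx1
  rw [eM] at hx2
  have huniq : ∀ s t : ℕ, s * (s + 2) = t * (t + 2) → s = t := fun s t h => by
    rcases Nat.lt_trichotomy s t with h' | h' | h'
    · nlinarith
    · exact h'
    · nlinarith
  have hyx' := huniq _ _ (hy1.symm.trans hx1)
  have hzx' := huniq _ _ (hz1.symm.trans hx1)
  have hpos : 0 < q * A := by
    have := hodd.pos
    rw [hx1] at this
    exact Nat.pos_of_mul_pos_right this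
  have hq : 0 < q := Nat.pos_of_mul_pos_right hpos
  rw [Nat.eq_of_mul_eq_mul_left hq hyx', Nat.eq_of_mul_eq_mul_left hq hzx'] at hx2
  have hA2 : A ∣ 2 := (Nat.dvd_add_right (dvd_mul_left A q)).mp ⟨A, hx2.symm⟩
  have hAodd : Odd A := by
    rw [hx1] at hodd
    exact (Nat.odd_mul.mp (Nat.odd_mul.mp hodd).1).2
  have hA1 : A = 1 := by
    have := Nat.le_of_dvd two_pos hA2
    rcases hAodd with ⟨w, hw⟩
    omega
  rw [hA1] at hx2
  omega

end CfsgLib.Bender.Q
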