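import Mathlib.Data.ZMod.Basic
import Mathlib.Tactic.Linarith
import Mathlib.Tactic.LinearCombination
import Mathlib.Tactic.IntervalCases
import Mathlib.Tactic.Positivity
import Mathlib.Tactic.Ring
import Mathlib.Tactic.NormNum

/-!
The arithmetic of the semilinear case.

Blueprint: `blueprint/bender/Q2.md` IV.1.
-/

set_option autoImplicit false

namespace CfsgLib.Bender.Q

/-- `k ≡ 1` and `l ≡ -1` modulo `r`. -/
theorem residues {r f k l : ℕ} (hr : 2 ≤ r) (hf : r ∣ f - 1) (hf1 : 1 ≤ f) (hkl : k * l = f * (r - 1))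
    (hl : r ∣ 1 + l) (hk : k ≠ 1) : ∃ a b, 1 ≤ a ∧ 1 ≤ b ∧ k = a * r + 1 ∧ l + 1 = b * r := by
  obtain ⟨b, hb⟩ := hl
  obtain ⟨x, hx⟩ := hf
  have h : r ∣ k + (r - 1) := by
    have h1 : k * l + k = r * (k * b) := by
      calc k * l + k = k * (1 + l) := by ring
        _ = _ := by rw [hb]; ring
    have h2 : r ∣ f * (r - 1) + k := ⟨k * b, by rw [← hkl, h1]⟩
    have h3 : f * (r - 1) + k = r * (x * (r - 1)) + (k + (r - 1)) := by
      rw [show f = r * x + 1 by omega]; ring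
    rw [h3] at h2
    exact (Nat.dvd_add_right (dvd_mul_right r _)).mp h2
  obtain ⟨y, hy⟩ := h
  have hy1 : 1 ≤ y := by
    by_contra hc
    rw [show y = 0 by omega, mul_zero] at hy
    omega
  obtain ⟨a, rfl⟩ : ∃ a, y = a + 1 := ⟨y - 1, by omega⟩
  rw [Nat.mul_add, mul_one] at hy
  have hka : k = a * r + 1 := by rw [mul_comm a]; omega
  refine ⟨a, b, ?_, ?_, hka, by rw [mul_comm b]; omega⟩
  · by_contra hc
    rw [show a = 0 by omega, zero_mul] at hka
    exact hk (by omega)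
  · by_contra hc
    rw [show b = 0 by omega, mul_zero] at hb
    omega

/-- The linear case: `k = r + 1`. -/
theorem linear_case {r a b l : ℕ} (hr : 2 ≤ r) (ha : 1 ≤ a) (hb : 1 ≤ b) (hl : l + 1 = b * r)
    (h : (a * r + 1) * l = (r + 1) * (r - 1)) : a = 1 ∧ l = r - 1 := by
  obtain ⟨s, rfl⟩ : ∃ s, r = s + 1 := ⟨r - 1, by omega⟩
  rw [Nat.add_sub_cancel] at h ⊢
  have hls : s ≤ l := by nlinarith
  have h1 : a * (s + 1) + 1 ≤ s + 2 := by
    by_contra hc
    nlinarith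
  have ha1 : a = 1 := by nlinarith
  subst ha1
  exact ⟨rfl, Nat.eq_of_mul_eq_mul_left (show 0 < 1 * (s + 1) + 1 by omega) (by rw [h]; ring)⟩

/-- The Suzuki case: `k = r ^ 2 + 1`. -/
theorem suzuki_case {r a b l : ℕ} (hr : 4 ≤ r) (hev : Even r) (ha : 1 ≤ a) (hb : 1 ≤ b) (hl : l + 1 = b * r)
    (h : (a * r + 1) * l = (r ^ 2 + 1) * (r - 1)) : a = r ∧ l = r - 1 := by
  have hZ : ((a : ℤ) * r + 1) * ((b : ℤ) * r - 1) = ((r : ℤ) ^ 2 + 1) * ((r : ℤ) - 1) := by
    have h1 := congrArg (fun x : ℕ => (x : ℤ)) h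
    have h2 : (l : ℤ) = (b : ℤ) * r - 1 := by
      have := congrArg (fun x : ℕ => (x : ℤ)) hl
      push_cast at this
      linarith
    push_cast [Nat.cast_sub (show 1 ≤ r by omega)] at h1
    rw [← h2]
    exact h1
  have heq : (a : ℤ) * b * r + b - a = (r : ℤ) ^ 2 - r + 1 := by
    have hr0 : (r : ℤ) ≠ 0 := by omega
    exact mul_left_cancel₀ hr0 (by linear_combination hZ)
  rcases Nat.lt_or_ge b 2 with hb2 | hb2
  · obtain rfl : b = 1 := by omega
    refine ⟨?_, by omega⟩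
    have h1 : (a : ℤ) * ((r : ℤ) - 1) = (r : ℤ) * ((r : ℤ) - 1) := by push_cast at heq; linear_combination heq
    exact_mod_cast mul_right_cancel₀ (show (r : ℤ) - 1 ≠ 0 by omega) h1
  exfalso
  -- `b - a - 1 = r (r - 1 - a b)`
  have hZt : (b : ℤ) - a - 1 = r * ((r : ℤ) - 1 - a * b) := by linear_combination heq
  rcases lt_trichotomy ((r : ℤ) - 1 - a * b) 0 with ht | ht | ht
  · have h1 : (b : ℤ) - a - 1 ≤ -(r : ℤ) := by
      rw [hZt]
      nlinarith
    have h2 : (r : ℤ) + 1 ≤ a := by linarith [show (2 : ℤ) ≤ b by exact_mod_cast hb2]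
    nlinarith [show (2 : ℤ) ≤ b by exact_mod_cast hb2, show (4 : ℤ) ≤ r by exact_mod_cast hr,
      mul_le_mul h2 (show (2 * (r : ℤ) - 1) ≤ b * r - 1 by nlinarith [show (2 : ℤ) ≤ b by exact_mod_cast hb2])
        (by linarith [show (4 : ℤ) ≤ r by exact_mod_cast hr]) (by positivity)]
  · rw [ht, mul_zero] at hZt
    have hab : a * b + 1 = r := by
      have : (a : ℤ) * b + 1 = r := by linarith
      exact_mod_cast this
    have hb' : b = a + 1 := by omega
    obtain ⟨j, hj⟩ := Nat.even_mul_succ_self a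
    obtain ⟨i, hi⟩ := hev
    rw [hb', hj] at hab
    omega
  · have h1 : (r : ℤ) ≤ (b : ℤ) - a - 1 := by rw [hZt]; nlinarith
    nlinarith [show (1 : ℤ) ≤ a by exact_mod_cast ha]

/-- The unitary case: `k = r + 1`. -/
theorem unitary_case {r k a : ℕ} (hr : 4 ≤ r) (hev : Even r) (ha : 1 ≤ a) (hk : k = a * r + 1)
    (hdvd : k ∣ (r ^ 3 + 1) * (r - 1)) (hprime : ∀ P, P.Prime → P ∣ k → P ∣ r - 1 ∨ P ∣ r + 1) : k = r + 1 := by
  obtain ⟨s, hs⟩ : ∃ s, r = s + 1 := ⟨r - 1, by omega⟩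
  have hfac : (r ^ 3 + 1) * (r - 1) = ((r + 1) * (r - 1)) * (s * s + s + 1) := by
    rw [hs, Nat.add_sub_cancel]; ring
  rw [hfac] at hdvd
  obtain ⟨k1, k2, hk1, hk2, hk12⟩ := Nat.dvd_mul.mp hdvd
  have h3 : ∀ P, P.Prime → P ∣ k2 → P = 3 := by
    intro P hP hPk
    haveI := Fact.mk hP
    have hPA : ((s * s + s + 1 : ℕ) : ZMod P) = 0 := (ZMod.natCast_eq_zero_iff _ _).mpr (hPk.trans hk2)
    have h3' : ((3 : ℕ) : ZMod P) = 0 := by
      push_cast at hPA ⊢
      rcases hprime P hP (hk12 ▸ dvd_mul_of_dvd_right hPk k1) with h | h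
      · have hP1 : ((s : ℕ) : ZMod P) = 0 := (ZMod.natCast_eq_zero_iff _ _).mpr (by rwa [hs, Nat.add_sub_cancel] at h)
        rw [hP1] at hPA
        simp at hPA
      · have hP2 : ((s + 2 : ℕ) : ZMod P) = 0 := (ZMod.natCast_eq_zero_iff _ _).mpr (by rwa [hs] at h)
        push_cast at hP2
        linear_combination hPA - ((s : ZMod P) - 1) * hP2
    exact ((Nat.prime_dvd_prime_iff_eq hP Nat.prime_three).mp ((ZMod.natCast_eq_zero_iff _ _).mp h3'))
  have hk2pos : k2 ≠ 0 := fun e => by rw [e, mul_zero] at hk12; omega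
  have h9 : ¬ 9 ∣ s * s + s + 1 := by
    intro h
    have h' : ((s * s + s + 1 : ℕ) : ZMod 9) = 0 := (ZMod.natCast_eq_zero_iff _ _).mpr h
    push_cast at h'
    revert h'
    generalize (s : ZMod 9) = x
    revert x
    decide
  have hk23 : k2 ∣ 3 := by
    obtain ⟨j, hj⟩ : ∃ j, k2 = 3 ^ j := by
      refine ⟨k2.primeFactorsList.length, ?_⟩
      exact Nat.eq_prime_pow_of_unique_prime_dvd hk2pos fun {d} hd hdk => h3 d hd hdk
    rw [hj]
    rcases j with _ | _ | j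
    · simp
    · simp
    · exact absurd ((pow_dvd_pow 3 (show 2 ≤ j + 1 + 1 by omega)).trans (hj ▸ hk2)) h9
  have hk3 : k ∣ ((r + 1) * (r - 1)) * 3 := hk12 ▸ mul_dvd_mul hk1 hk23
  obtain ⟨t, ht⟩ := hk3
  -- `t + 3 ≡ 0` modulo `r`
  have ht' : t + 3 = r * (3 * r - a * t) ∧ a * t ≤ 3 * r := by
    have e : 3 * (r * r) = (a * r + 1) * t + 3 := by
      rw [← hk, ← ht, hs, Nat.add_sub_cancel]; ring
    have hle : a * t ≤ 3 * r := by nlinarith
    refine ⟨?_, hle⟩
    obtain ⟨w, hw⟩ := Nat.exists_eq_add_of_le hle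
    rw [hw, Nat.add_sub_cancel_left]
    nlinarith
  obtain ⟨htb, -⟩ := ht'
  set b := 3 * r - a * t with hbdef
  have hZ : ((a : ℤ) * r + 1) * ((b : ℤ) * r - 3) = ((r : ℤ) + 1) * ((r : ℤ) - 1) * 3 := by
    have h1 := congrArg (fun x : ℕ => (x : ℤ)) ht
    have h2 : (t : ℤ) = (b : ℤ) * r - 3 := by
      have := congrArg (fun x : ℕ => (x : ℤ)) htb
      push_cast at this
      linarith
    push_cast [hk, Nat.cast_sub (show 1 ≤ r by omega)] at h1
    rw [← h2]
    linarith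
  have heq : (a : ℤ) * b * r + b - 3 * a = 3 * r :=
    mul_left_cancel₀ (show (r : ℤ) ≠ 0 by omega) (by linear_combination hZ)
  have hA : (1 : ℤ) ≤ a := by exact_mod_cast ha
  have hR : (4 : ℤ) ≤ r := by exact_mod_cast hr
  have hb0 : b ≠ 0 := fun e => by rw [e, mul_zero] at htb; omega
  have hb3 : b ≤ 3 := by
    by_contra hc
    have hB : (4 : ℤ) ≤ b := by exact_mod_cast (show 4 ≤ b by omega)
    nlinarith [mul_le_mul hA (show (4 : ℤ) * r - 3 ≤ b * r - 3 by nlinarith) (by linarith) (by linarith)]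
  have hdvd' : k ∣ ((r + 1) * (r - 1)) * (s * s + s + 1) := hdvd
  interval_cases b
  · exact absurd rfl hb0
  · exfalso
    push_cast at heq
    have h8 : ((a : ℤ) - 3) * ((r : ℤ) - 3) = 8 := by linear_combination heq
    have ha3 : (4 : ℤ) ≤ a := by nlinarith
    have hr11 : (r : ℤ) ≤ 11 := by nlinarith
    have ha11 : (a : ℤ) ≤ 11 := by nlinarith
    obtain ⟨i, rfl⟩ := hev
    obtain rfl : s = 2 * i - 1 := by omega
    have hi1 : 2 ≤ i := by omega
    have hi2 : i ≤ 5 := by omega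
    have ha' : 4 ≤ a := by omega
    have ha'' : a ≤ 11 := by omega
    subst hk
    interval_cases i <;> interval_cases a <;> first | (norm_num at h8; done) | norm_num at hdvd'
  · exfalso
    push_cast at heq
    have hr4 : r ≤ 4 := by
      by_contra hc
      have : (5 : ℤ) ≤ r := by exact_mod_cast (show 5 ≤ r by omega)
      have h2 : (a : ℤ) ≤ 1 ∨ 2 ≤ (a : ℤ) := by omega
      rcases h2 with h2 | h2 <;> nlinarith
    obtain rfl : r = 4 := by omega
    obtain rfl : a = 2 := by omega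
    obtain rfl : s = 3 := by omega
    subst hk
    norm_num at hdvd'
  · push_cast at heq
    have h1 : (a : ℤ) * (3 * (r : ℤ) - 3) = 1 * (3 * (r : ℤ) - 3) := by linarith
    have ha' : (a : ℤ) = 1 := mul_right_cancel₀ (show 3 * (r : ℤ) - 3 ≠ 0 by omega) h1
    rw [hk, show a = 1 by exact_mod_cast ha', one_mul]

end CfsgLib.Bender.Q
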