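import Cfsg.Agent.Lib.Bender.Q.Semi.Base

/-!
When `u` has `q ^ 3 + 1` fixed points a prime dividing its number of swappers at a moved point divides `q ^ 2 - 1`:
two members commuting with `u` have a product acting on a circle.

Blueprint: `blueprint/bender/Q2.md` IV.1, the unitary case.
-/

set_option autoImplicit false
set_option linter.unusedSectionVars false
set_option linter.style.haveILetI false

universe u

namespace CfsgLib.Bender.Q

open MulAction
open CfsgLib.Bender.TwoClosed (IsInv two mem_two smul_conj MaxP mem_normalizer_of_conj conj_mem_of_normalizer)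

variable {G Ω : Type u} [Group G] [MulAction G Ω] [Finite G] [FaithfulSMul G Ω] {Z : Set G} (hX : Ctx G Ω Z)
include hX

theorem prime_dvd_of_cube {u : G} (hu : IsB Ω u) {a : Ω} (hua : u • a = a) (he : eAt Z u a ≠ 1)
    (hf : fixN Ω u = (eAt Z u a + 1) ^ 3 + 1) {g : Ω} (hg : u • g ≠ g) {P : ℕ} (hP : P.Prime)
    (hdvd : P ∣ sAt Z u g (u • g)) : P ∣ eAt Z u a ∨ P ∣ eAt Z u a + 2 := by
  have hQ := hX.hyp
  haveI := Fact.mk hP
  obtain ⟨c, hc, huc, hcg⟩ := exists_cent_swap hQ hu.1 hg
  have hci := hQ.inv c hc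
  obtain ⟨k, hk, hkc, -, -⟩ := hX.eq_count hu hua
  have hodd : Odd (sAt Z u g (u • g)) := by
    have hm := odd_memAt hQ a
    rw [← hk] at hm
    rw [hkc g hg]
    exact (Nat.odd_mul.mp hm).1
  have hP2 : P ≠ 2 := fun e => Nat.not_even_iff_odd.mpr hodd (even_iff_two_dvd.mpr (e ▸ hdvd))
  set O := oddRad (two g (u • g) : Subgroup G)
  set K := O ⊓ Subgroup.centralizer ({u} : Set G) with hKdef
  have hKodd : Odd (Nat.card K) := (odd_oddRad _).of_dvd_nat (Subgroup.card_dvd_of_le inf_le_left)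
  have hcN : c ∈ Subgroup.normalizer (K : Set G) := by
    refine mem_normalizer_inf_centralizer ?_ huc
    exact le_normalizer_oddRad _ (mem_normalizer_two hQ hg hc hcg)
  -- the conjugates of `c` under `K` are the swappers commuting with `u`
  have horb : (orb K c).ncard = sAt Z u g (u • g) := by
    rw [sAt, sSet, ncard_swap_eq hQ hg hc hcg (fun y => u * y = y * u) (fun x => u * x = x * u) (fun x _ => by
      constructor
      · intro h
        exact ((show Commute u x from h).mul_right huc).eq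
      · intro h
        have := ((show Commute u (x * c) from h).mul_right (show Commute u c from huc)).eq
        rwa [mul_assoc, hci.2, mul_one] at this),
      ← Set.ncard_image_of_injective {x | x ∈ O ∧ c * x * c = x⁻¹ ∧ u * x = x * u} (mul_left_injective c)]
    congr 1
    ext w
    constructor
    · rintro ⟨r, hr, rfl⟩
      refine ⟨r * c * r⁻¹ * c, ⟨?_, ?_, ?_⟩, ?_⟩
      · rw [show r * c * r⁻¹ * c = r * (c * r⁻¹ * c⁻¹) by rw [hci.inv]; group]
        exact O.mul_mem hr.1 (conj_mem_of_normalizer (le_normalizer_oddRad _ (mem_normalizer_two hQ hg hc hcg))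
          (O.inv_mem hr.1))
      · rw [mul_inv_rev, mul_inv_rev, mul_inv_rev, inv_inv, hci.inv]
        calc c * (r * c * r⁻¹ * c) * c = c * r * c * r⁻¹ * (c * c) := by group
          _ = c * (r * (c * r⁻¹)) := by rw [hci.2, mul_one]; group
      · have hru : Commute u r := mem_cent_iff.mp hr.2
        exact (((hru.mul_right huc).mul_right hru.inv_right).mul_right huc).eq
      · show r * c * r⁻¹ * c * c = r * c * r⁻¹
        rw [mul_assoc _ c c, hci.2, mul_one]
    · rintro ⟨x, ⟨hx, hxc, hxu⟩, rfl⟩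
      refine ⟨x ^ ((Nat.card O + 1) / 2), ⟨O.pow_mem hx _,
        mem_cent_iff.mpr ((show Commute u x from hxu).pow_right _).eq⟩, ?_⟩
      have hr := inv_conj_pow hci.2 hxc ((Nat.card O + 1) / 2)
      set r := x ^ ((Nat.card O + 1) / 2)
      show r * c * r⁻¹ = x * c
      rw [← hr, show r * c * (c * r * c) = r * (c * c) * r * c by group, hci.2, mul_one,
        pow_half_mul_self (odd_oddRad _) hx]
  obtain ⟨R, hR, hcR⟩ := CfsgLib.Bender.TwoClosed.exists_invariant_maxP (p := P) hKodd hci.2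
    fun x hx => conj_mem_of_normalizer hcN hx
  obtain ⟨x, hx, hxc⟩ := exists_ne_of_orb (X := R) (c := c) (by
    rw [ncard_orb_maxP hci hKodd (fun x hx => conj_mem_of_normalizer hcN hx) hR hcR, horb]
    exact Nat.one_lt_pow (hP.factorization_pos_of_dvd hodd.pos.ne' hdvd).ne' hP.one_lt)
  set y := x * c * x⁻¹ * c with hy
  have hyR : y ∈ R := by
    rw [hy, show x * c * x⁻¹ * c = x * (c * x⁻¹ * c⁻¹) by rw [hci.inv]; group]
    exact R.mul_mem hx (conj_mem_of_normalizer hcR (R.inv_mem hx))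
  have hy1 : y ≠ 1 := fun e => hxc (by
    have e' : x * c * x⁻¹ = c := by
      rw [hy, mul_eq_one_iff_eq_inv, hci.inv] at e
      exact e
    calc x * c = x * c * x⁻¹ * x := by group
      _ = c * x := by rw [e'])
  have hyinv : c * y * c = y⁻¹ := by
    rw [hy, mul_inv_rev, mul_inv_rev, mul_inv_rev, inv_inv, hci.inv]
    calc c * (x * c * x⁻¹ * c) * c = c * x * c * x⁻¹ * (c * c) := by group
      _ = c * (x * (c * x⁻¹)) := by rw [hci.2, mul_one]; group
  have hPy : P ∣ orderOf y := by
    obtain ⟨j, hj⟩ := IsPGroup.iff_orderOf.mp hR.isPGroup ⟨y, hyR⟩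
    rw [Subgroup.orderOf_mk] at hj
    rw [hj]
    refine dvd_pow_self P fun j0 => hy1 (orderOf_eq_one_iff.mp ?_)
    rw [hj, j0, pow_zero]
  set z := y ^ (orderOf y / P)
  have hz : orderOf z = P := orderOf_pow_orderOf_div (orderOf_pos y).ne' hPy
  have hzK : z ∈ K := K.pow_mem (hR.le hyR) _
  have hzinv : c * z * c = z⁻¹ := inv_conj_pow hci.2 hyinv _
  obtain ⟨hzg, -⟩ := mem_two.mp (oddRad_le _ hzK.1)
  -- the image on the fixed points
  have h4 := four_of_eAt_ne_one hX hu hua he
  have hT := isTopOdd_memGrp (isTop_cent hX hu h4)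
  set X := memGrp Z (Subgroup.centralizer ({u} : Set G))
  obtain ⟨p, hp⟩ := exists_fix hQ hc
  have hax : a ∈ centres Ω Z X := (centres_memGrp_cent hX hu).ge hua
  obtain ⟨t, Q, hS, hq⟩ := exists_setup_fix hX hu h4 hax
  have hF := hT.fourTop hQ hX.below
  have hcX : c ∈ X := mem_memGrp hc (mem_cent_iff.mpr huc)
  have hzcX : z * c ∈ X := by
    refine mem_memGrp ?_ (mem_cent_iff.mpr ((show Commute u z from mem_cent_iff.mp hzK.2).mul_right huc).eq)
    have hr := inv_conj_pow hci.2 hzinv ((Nat.card K + 1) / 2)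
    set r := z ^ ((Nat.card K + 1) / 2)
    have h2 := hQ.conj c hc r
    rwa [show r * c * r⁻¹ = z * c by
      rw [← hr, show r * c * (c * r * c) = r * (c * c) * r * c by group, hci.2, mul_one,
        pow_half_mul_self hKodd hzK]] at h2
  have hzX : z ∈ X := by
    have := X.mul_mem hzcX hcX
    rwa [mul_assoc, hci.2, mul_one] at this
  have hne : img hQ X ⟨z, hzX⟩ ≠ 1 := fun e => by
    have hzp : z • p = p := img_eq_one_iff.mp e p ((centres_memGrp_cent hX hu).ge (commute_fix hQ hc hp huc))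
    have hpg : g ≠ p := fun e' => hg (by rw [e']; exact commute_fix hQ hc hp huc)
    have := hX.noBad c hc z p g hp hzinv (hz ▸ hP.odd_of_ne_two hP2) hzp hpg hzg
    rw [this, orderOf_one] at hz
    exact hP.one_lt.ne hz
  have hord : orderOf (img hQ X ⟨z, hzX⟩) = P := by
    rcases (Nat.dvd_prime hP).mp (hz ▸ (Subgroup.orderOf_mk z hzX) ▸ orderOf_map_dvd (img hQ X) ⟨z, hzX⟩) with h | h
    · exact absurd (orderOf_eq_one_iff.mp h) hne
    · exact h
  obtain ⟨hi1, hi2⟩ := img_isInv hQ hT.toIsTop (x := ⟨c, hcX⟩) hc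
  have hinv : img hQ X ⟨c, hcX⟩ * img hQ X ⟨z, hzX⟩ * img hQ X ⟨c, hcX⟩ = (img hQ X ⟨z, hzX⟩)⁻¹ := by
    rw [← map_mul, ← map_mul, ← map_inv]
    exact congrArg _ (Subtype.ext hzinv)
  rcases Ext.inverted_order hS hF (hord ▸ hP.odd_of_ne_two hP2) hi1 hi2 hinv with h | h | ⟨hR', -⟩
  · rw [hord, hq, Nat.add_sub_cancel] at h
    exact Or.inl h
  · rw [hord, hq] at h
    exact Or.inr h
  · exfalso
    rcases Ext.shape_cases hS hF with ⟨hR'', -⟩ | ⟨-, h⟩
    · exact hR' hR''
    · have h1 := CfsgLib.RankOne.card_points hS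
      have hcard : Nat.card (centres Ω Z X) = fixN Ω u :=
        (Nat.card_coe_set_eq _).trans (congrArg Set.ncard (centres_memGrp_cent hX hu))
      rw [hcard, hf, h, hq] at h1
      have h2 : (eAt Z u a + 1) ^ 2 < (eAt Z u a + 1) ^ 3 :=
        Nat.pow_lt_pow_right (by have := eAt_pos hQ hu.1 hua; omega) (by norm_num)
      omega

end CfsgLib.Bender.Q
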