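import Cfsg.Agent.Lib.Bender.Q.Semi.Classes
import Cfsg.Agent.Lib.Bender.Q.Semi.Unitary
import Cfsg.Agent.Lib.Bender.Q.Semi.Arith

/-!
The semilinear case with `e = r - 1 > 1`: there are `r ^ 2 + 1` points and `r ^ 2 - 1` members at each.

Blueprint: `blueprint/bender/Q2.md` IV.1.
-/

set_option autoImplicit false
set_option linter.unusedSectionVars false
set_option linter.style.haveILetI false

universe u

namespace CfsgLib.Bender.Q

open MulAction
open CfsgLib.Bender.TwoClosed (IsInv two mem_two smul_conj)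

variable {G Ω : Type u} [Group G] [MulAction G Ω] [Finite G] [FaithfulSMul G Ω] {Z : Set G}

theorem semi_shape (hX : Ctx G Ω Z) (hS : Semi G Ω Z) {u : G} (hu : IsB Ω u) {a : Ω} (hua : u • a = a)
    (he : eAt Z u a ≠ 1) :
    Nat.card Ω = (eAt Z u a + 1) ^ 2 + 1 ∧ fixN Ω u = eAt Z u a + 2 ∧
      Nat.card (MemAt Z a) = (eAt Z u a + 2) * eAt Z u a := by
  have hQ := hX.hyp
  haveI := finite_points hQ
  haveI : Nonempty Ω := ⟨a⟩
  obtain ⟨he3, hcases⟩ := card_fix_cases hX hu (four_of_eAt_ne_one hX hu hua he) hua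
  rw [← fixN] at hcases
  obtain ⟨i, hi1, hi⟩ := eAt_two_pow hX hu hua
  obtain ⟨k, hk, hkc, -, hEQ⟩ := hX.eq_count hu hua
  have hk1 : k ≠ 1 := fun e => hS.notFull u hu ((full_iff hX hu hua).mpr (by rw [← hk, e, one_mul]))
  have hkodd : Odd k := by
    have hm := odd_memAt hQ a
    rw [← hk] at hm
    exact (Nat.odd_mul.mp hm).1
  obtain ⟨j, hj1, hj3, hfj⟩ : ∃ j, 1 ≤ j ∧ j ≤ 3 ∧ fixN Ω u = (eAt Z u a + 1) ^ j + 1 := by
    rcases hcases with h | h | h
    · exact ⟨1, le_rfl, by norm_num, by rw [h, pow_one]⟩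
    · exact ⟨2, by norm_num, by norm_num, h⟩
    · exact ⟨3, by norm_num, le_rfl, h⟩
  have hkfe : k ∣ fixN Ω u * eAt Z u a := by
    have hcop : Nat.Coprime k (fixN Ω u - 1) := by
      rw [hfj, Nat.add_sub_cancel, hi]
      exact ((Nat.coprime_two_right.mpr hkodd).pow_right i).pow_right j
    exact (Nat.dvd_add_right dvd_rfl).mp (hcop.dvd_of_dvd_mul_left ⟨Nat.card Ω - 1, hEQ.symm⟩)
  obtain ⟨l, hl⟩ := hkfe
  have hn : Nat.card Ω - 1 = (fixN Ω u - 1) * (1 + l) :=
    Nat.eq_of_mul_eq_mul_left hkodd.pos (by rw [hEQ, hl]; ring)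
  have hdvd := succ_dvd_classes hX hS hu hua hi hn
  set r := eAt Z u a + 1 with hr
  have hr4 : 4 ≤ r := by omega
  have hrev : Even r := by rw [hi]; exact (Nat.even_pow.mpr ⟨by decide, by omega⟩)
  have her : eAt Z u a = r - 1 := by omega
  obtain ⟨x, y, hx, hy, hkx, hly⟩ := residues (r := r) (f := fixN Ω u) (by omega)
    (by rw [hfj, Nat.add_sub_cancel]; exact dvd_pow_self r (by omega)) (by omega) (by rw [← her, hl]) hdvd hk1
  have hne : Nat.card Ω = Nat.card Ω - 1 + 1 := by have : 0 < Nat.card Ω := Nat.card_pos; omega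
  have hexists : ∃ g : Ω, u • g ≠ g := by
    by_contra h
    push Not at h
    exact hu.1.1 (eq_of_smul_eq_smul (α := Ω) fun c => by rw [h c, one_smul])
  interval_cases j
  · rw [pow_one] at hfj
    obtain ⟨rfl, hl'⟩ := linear_case (by omega) hx hy hly (by rw [← hkx, ← hl, hfj, her])
    refine ⟨?_, by omega, by rw [← hk, hkx, one_mul]⟩
    rw [hne, hn, hfj, Nat.add_sub_cancel, hl', show 1 + (r - 1) = r by omega, pow_two]
  · exfalso
    obtain ⟨rfl, hl'⟩ := suzuki_case hr4 hrev hx hy hly (by rw [← hkx, ← hl, hfj, her])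
    obtain ⟨P, hP, hPk⟩ := Nat.exists_prime_and_dvd hk1
    haveI := Fact.mk hP
    have hmod := hX.card_points_mod (hk ▸ hPk.mul_right _)
    have h1 : Nat.card Ω = r ^ 3 + 1 := by
      rw [hne, hn, hfj, Nat.add_sub_cancel, hl', show 1 + (r - 1) = r by omega]
      ring
    rw [h1] at hmod
    have h2 := (ZMod.natCast_eq_natCast_iff _ _ _).mpr hmod
    rw [hkx] at hPk
    have h3 := (ZMod.natCast_eq_zero_iff _ _).mpr hPk
    push_cast at h2 h3
    have h4 : ((r : ℕ) : ZMod P) = -1 := by linear_combination -h2 + (r : ZMod P) * h3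
    rw [h4] at h3
    have h5 : ((2 : ℕ) : ZMod P) = 0 := by
      push_cast
      linear_combination h3
    have h6 := (Nat.prime_dvd_prime_iff_eq hP Nat.prime_two).mp ((ZMod.natCast_eq_zero_iff _ _).mp h5)
    obtain ⟨w, hw⟩ := hrev
    subst h6
    obtain ⟨v, hv⟩ := hkodd
    obtain ⟨w', hw'⟩ := hPk
    omega
  · exfalso
    obtain ⟨g, hg⟩ := hexists
    have hkr : k = r + 1 := unitary_case hr4 hrev hx hkx (by rw [← hfj, ← her, hl]; exact dvd_mul_right k l)
      fun P hP hPk => by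
        rcases prime_dvd_of_cube hX hu hua he hfj hg hP (by rw [hkc g hg]; exact hPk) with h | h
        · exact Or.inl (her ▸ h)
        · exact Or.inr (by rw [show r + 1 = eAt Z u a + 2 by omega]; exact h)
    obtain ⟨P, hP, hPk⟩ := Nat.exists_prime_and_dvd hk1
    haveI := Fact.mk hP
    have hmod := hX.card_points_mod (hk ▸ hPk.mul_right _)
    have h2 := (ZMod.natCast_eq_natCast_iff _ _ _).mpr hmod
    rw [hne, hn, hfj, Nat.add_sub_cancel] at h2
    have hlZ : (l : ℤ) = ((r : ℤ) ^ 2 - r + 1) * ((r : ℤ) - 1) := by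
      have h0 := congrArg (fun t : ℕ => (t : ℤ)) hl
      rw [hfj, hkr, her] at h0
      push_cast [Nat.cast_sub (show 1 ≤ r by omega)] at h0
      exact mul_left_cancel₀ (show ((r : ℤ) + 1) ≠ 0 by omega) (by linear_combination -h0)
    have hlP := congrArg (fun t : ℤ => (t : ZMod P)) hlZ
    simp only [Int.cast_mul, Int.cast_add, Int.cast_sub, Int.cast_pow, Int.cast_natCast, Int.cast_one] at hlP
    rw [hkr] at hPk
    have h3 := (ZMod.natCast_eq_zero_iff _ _).mpr hPk
    push_cast at h2 h3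
    have h4 : (r : ZMod P) = -1 := by linear_combination h3
    rw [hlP, h4] at h2
    have h5 : ((4 : ℕ) : ZMod P) = 0 := by
      push_cast
      linear_combination h2
    have h6 := (Nat.prime_dvd_prime_iff_eq hP Nat.prime_two).mp
      (hP.dvd_of_dvd_pow (show P ∣ 2 ^ 2 from (ZMod.natCast_eq_zero_iff _ _).mp h5))
    subst h6
    obtain ⟨w, hw⟩ := hrev
    obtain ⟨v, hv⟩ := hPk
    omega

end CfsgLib.Bender.Q
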