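import Cfsg.Agent.Lib.Bender.Q.Semi.Regular
import Cfsg.Agent.Lib.Bender.Q.Semi.Quaternion
import Cfsg.Agent.Lib.Bender.Q.Semi.Shape
import Cfsg.Agent.Lib.Bender.Q.Semi.One
import Cfsg.Agent.Lib.UniqueSubgroup

/-!
The case without full involutions is impossible: a Sylow 2-subgroup of a two point stabiliser has a single involution,
is not quaternion and not cyclic.

Blueprint: `blueprint/bender/Q2.md` IV and END.
-/

set_option autoImplicit false
set_option linter.unusedSectionVars false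
set_option linter.style.haveILetI false

universe u

namespace CfsgLib.Bender.Q

open MulAction
open CfsgLib.Bender.TwoClosed (IsInv two mem_two smul_conj)

variable {G Ω : Type u} [Group G] [MulAction G Ω] [Finite G] [FaithfulSMul G Ω] {Z : Set G}

theorem false_of_semi (hX : Ctx G Ω Z) (hS : Semi G Ω Z) {u : G} (hu : IsB Ω u) : False := by
  have hQ := hX.hyp
  haveI : Fact (Nat.Prime 2) := ⟨Nat.prime_two⟩
  obtain ⟨hui, a, b, hab, hua, hub⟩ := id hu
  by_cases he : eAt Z u a = 1
  · exact false_of_semi_one hX hS hu hua he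
  obtain ⟨hΩ, -, hmem⟩ := semi_shape hX hS hu hua he
  obtain ⟨i, -, hi⟩ := eAt_two_pow hX hu hua
  have hn : Nat.card Ω = 2 ^ (2 * i) + 1 := by rw [hΩ, hi, ← pow_mul, mul_comm]
  have hm : Nat.card (MemAt Z a) + 1 = Nat.card Ω - 1 := by
    rw [hmem, hΩ, Nat.add_sub_cancel]
    ring
  have hb : b ≠ a := hab.symm
  set u' : (two a b : Subgroup G) := ⟨u, mem_two.mpr ⟨hua, hub⟩⟩ with hu'
  have hu2 : u' * u' = 1 := Subtype.ext hui.2
  have hu1 : u' ≠ 1 := fun e => hui.1 (congrArg Subtype.val e)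
  obtain ⟨T, hle⟩ := (isPGroup_zpowers (x := u') ⟨hu1, hu2⟩).exists_le_sylow
  have huT : u' ∈ T := hle (Subgroup.mem_zpowers u')
  set uT : T := ⟨u', huT⟩
  have hord : orderOf uT = 2 :=
    orderOf_eq_prime (by rw [pow_two]; exact Subtype.ext hu2) fun e => hu1 (congrArg Subtype.val e)
  -- an involution of `T` commuting with `u` is `u`
  have hcomm : ∀ w : T, w ≠ 1 → w * w = 1 → Commute uT w → w = uT := by
    intro w hw1 hw2 hwu
    obtain ⟨hwa, hwb⟩ := mem_two.mp (w : (two a b : Subgroup G)).2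
    refine Subtype.ext (Subtype.ext (hS.uniq u ((w : (two a b : Subgroup G)) : G) a b hab hui ⟨?_, ?_⟩ hua hub hwa hwb
      (congrArg (fun t : T => ((t : (two a b : Subgroup G)) : G)) hwu.eq)).symm)
    · exact fun e => hw1 (Subtype.ext (Subtype.ext e))
    · exact congrArg (fun t : T => ((t : (two a b : Subgroup G)) : G)) hw2
  haveI : Nontrivial T := ⟨⟨uT, 1, fun e => hu1 (congrArg Subtype.val e)⟩⟩
  haveI := T.2.center_nontrivial
  obtain ⟨k, hk⟩ := IsPGroup.iff_card.mp (T.2.to_subgroup (Subgroup.center T))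
  obtain ⟨c, hc⟩ := exists_prime_orderOf_dvd_card' (G := Subgroup.center T) 2 (by
    rw [hk]
    refine dvd_pow_self 2 fun k0 => ?_
    rw [k0, pow_zero] at hk
    exact absurd hk Finite.one_lt_card.ne')
  obtain ⟨hc2, hc1⟩ := CfsgLib.Involutions.orderOf_eq_two_iff'.mp hc
  have hcu : (c : T) = uT := hcomm c (fun e => hc1 (Subtype.ext e)) (congrArg Subtype.val hc2)
    (Subgroup.mem_center_iff.mp c.2 uT)
  have huniq : ∀ w : T, w ^ 2 = 1 → w ∈ Subgroup.zpowers uT := fun w hw => by
    rcases eq_or_ne w 1 with rfl | hw1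
    · exact one_mem _
    · rw [hcomm w hw1 (by rwa [← pow_two]) (hcu ▸ (Subgroup.mem_center_iff.mp c.2 w).symm)]
      exact Subgroup.mem_zpowers _
  rcases CfsgLib.UniqueSubgroup.cyclic_or_quaternion T.2 hord huniq with hcyc | ⟨-, N, hN, ⟨φ⟩⟩
  · exact false_of_cyclic hX hS hn hm hb hu hua hub T huT hcyc
  have h2 : 2 ^ N = 2 ^ (N - 1) + 2 ^ (N - 1) := by
    rw [← Nat.two_mul, ← pow_succ', Nat.sub_add_cancel hN]
  set h : ZMod (2 * 2 ^ N) := ((2 ^ (N - 1) : ℕ) : ZMod (2 * 2 ^ N))
  set z : ZMod (2 * 2 ^ N) := ((2 ^ N : ℕ) : ZMod (2 * 2 ^ N))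
  have hhh : h + h = z := by rw [← Nat.cast_add, ← h2]
  have hz0 : z ≠ 0 := fun e => by
    have := Nat.le_of_dvd (by positivity) ((ZMod.natCast_eq_zero_iff _ _).mp e)
    have : 0 < 2 ^ N := by positivity
    omega
  have hzz : z + z = 0 := by
    rw [← Nat.cast_add, ← Nat.two_mul, ZMod.natCast_self]
  set q : T := φ.symm (QuaternionGroup.a z) with hq
  have hqu : q = uT := by
    have hq1 : q ≠ 1 := fun e => by
      rw [hq, MulEquiv.map_eq_one_iff, ← QuaternionGroup.a_zero] at e
      injection e with e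
      exact hz0 e
    have hq2 : q * q = 1 := by
      rw [hq, ← map_mul, QuaternionGroup.a_mul_a, hzz, QuaternionGroup.a_zero, map_one]
    rcases huniq q (by rwa [pow_two]) with ⟨t, ht⟩
    rcases Int.even_or_odd' t with ⟨s, rfl | rfl⟩
    · refine absurd ?_ hq1
      rw [← ht]
      simp only
      rw [zpow_mul, zpow_two, show uT * uT = 1 from Subtype.ext hu2, one_zpow]
    · rw [← ht]
      simp only
      rw [zpow_add, zpow_mul, zpow_two, show uT * uT = 1 from Subtype.ext hu2, one_zpow, one_mul, zpow_one]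
  set x : T := φ.symm (QuaternionGroup.a h)
  set y : T := φ.symm (QuaternionGroup.xa 0)
  have hxx : x * x = uT := by rw [← hqu, hq, ← map_mul, QuaternionGroup.a_mul_a, hhh]
  have hyy : y * y = uT := by
    rw [← hqu, hq, ← map_mul, QuaternionGroup.xa_mul_xa, add_sub_cancel_right]
  have hxy : x * y = y * x * uT := by
    rw [← hqu, hq, ← map_mul, ← map_mul, ← map_mul, QuaternionGroup.a_mul_xa, QuaternionGroup.xa_mul_a,
      QuaternionGroup.xa_mul_a]
    congr 2
    linear_combination -(hhh) - hzz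
  refine false_of_quaternion hX hS hn hu hb
    (T := (T : Subgroup (two a b : Subgroup G)).map (two a b : Subgroup G).subtype)
    (T.2.map _) (Subgroup.map_subtype_le _) ⟨_, x.2, rfl⟩ ⟨_, y.2, rfl⟩ ?_ ?_ ?_
  · exact congrArg (fun t : T => ((t : (two a b : Subgroup G)) : G)) hxx
  · exact congrArg (fun t : T => ((t : (two a b : Subgroup G)) : G)) hyy
  · exact congrArg (fun t : T => ((t : (two a b : Subgroup G)) : G)) hxy

end CfsgLib.Bender.Q
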