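import Cfsg.Agent.Lib.Bender.Q.Semi.Base

/-!
Counting the involutions with two fixed points at a point: they fall into classes of `e + 1`, so `e + 1` divides
`1 + l` where `n - 1 = (f - 1) (1 + l)`.

Blueprint: `blueprint/bender/Q2.md` IV.1.
-/

set_option autoImplicit false
set_option linter.unusedSectionVars false
set_option linter.style.haveILetI false

universe u

namespace CfsgLib.Bender.Q

open MulAction
open CfsgLib.Bender.TwoClosed (IsInv two mem_two smul_conj)

variable {G Ω : Type u} [Group G] [MulAction G Ω] [Finite G] {Z : Set G}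

omit [MulAction G Ω] in
/-- A group of even order has an odd number of involutions. -/
theorem odd_involutions {K : Subgroup G} {x : G} (hxK : x ∈ K) (hx : IsInv x) :
    Odd {y : G | y ∈ K ∧ IsInv y}.ncard := by
  classical
  haveI : Fact (Nat.Prime 2) := ⟨Nat.prime_two⟩
  haveI := Fintype.ofFinite K
  have h := Equiv.Perm.card_compl_support_modEq (p := 2) (n := 1) (σ := Equiv.inv K) (by
    rw [pow_one, pow_two]
    exact Equiv.ext fun y => inv_inv y)
  have heven : 2 ∣ Fintype.card K := by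
    rw [← Nat.card_eq_fintype_card, ← CfsgLib.Involutions.orderOf_eq_two_iff'.mpr ⟨hx.2, hx.1⟩]
    exact Subgroup.orderOf_dvd_natCard K hxK
  have hset : Subtype.val '' ((Equiv.inv K).supportᶜ : Set K) = insert 1 {y : G | y ∈ K ∧ IsInv y} := by
    ext y
    constructor
    · rintro ⟨y, hy, rfl⟩
      rw [Set.mem_compl_iff, Finset.mem_coe, Equiv.Perm.notMem_support] at hy
      rcases eq_or_ne (y : G) 1 with e | e
      · exact Or.inl e
      · refine Or.inr ⟨y.2, e, ?_⟩
        have h1 : (y : G)⁻¹ = y := congrArg Subtype.val hy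
        nth_rewrite 1 [← h1]
        rw [inv_mul_cancel]
    · rintro (rfl | ⟨hyK, hy⟩)
      · exact ⟨1, by simp, rfl⟩
      · refine ⟨⟨y, hyK⟩, ?_, rfl⟩
        rw [Set.mem_compl_iff, Finset.mem_coe, Equiv.Perm.notMem_support]
        exact Subtype.ext hy.inv
  have hc := congrArg Set.ncard hset
  rw [Set.ncard_image_of_injective _ Subtype.val_injective, Set.ncard_insert_of_notMem (fun h => h.2.1 rfl)
    (Set.toFinite _), ← Finset.coe_compl, Set.ncard_coe_finset] at hc
  rw [Nat.odd_iff]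
  have h2 : Fintype.card K % 2 = 0 := Nat.mod_eq_zero_of_dvd heven
  have h3 := h
  unfold Nat.ModEq at h3
  omega

variable [FaithfulSMul G Ω] (hX : Ctx G Ω Z) (hS : Semi G Ω Z)
include hX hS

/-- `e + 1` divides `1 + l`. -/
theorem succ_dvd_classes {u : G} (hu : IsB Ω u) {a : Ω} (hua : u • a = a) {l i : ℕ} (hi : eAt Z u a + 1 = 2 ^ i)
    (hn : Nat.card Ω - 1 = (fixN Ω u - 1) * (1 + l)) : eAt Z u a + 1 ∣ 1 + l := by
  classical
  have hQ := hX.hyp
  haveI := finite_points hQ
  obtain ⟨b₀, hb₀, hub₀⟩ := exists_fix_ne hX hu a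
  set Ba : Set G := {v | IsB Ω v ∧ v • a = a}
  set N := {v : G | v ∈ (two a b₀ : Subgroup G) ∧ IsInv v}.ncard with hNdef
  have hNodd : Odd N := odd_involutions (mem_two.mpr ⟨hua, hub₀⟩) hu.1
  have hNb : ∀ b ∈ {c : Ω | c ≠ a}, {v | v ∈ Ba ∧ v • b = b}.ncard = N := by
    intro b hb
    obtain ⟨g, hga, hgb⟩ := hX.two_trans hb₀ (show b ≠ a from hb)
    rw [hNdef, ← Set.ncard_image_of_injective {v : G | v ∈ (two a b₀ : Subgroup G) ∧ IsInv v} (MulAut.conj g).injective]
    congr 1
    ext v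
    constructor
    · rintro ⟨⟨hvB, hva⟩, hvb⟩
      refine ⟨g⁻¹ * v * g⁻¹⁻¹, ⟨mem_two.mpr ⟨?_, ?_⟩, hvB.1.conj _⟩, by simp [mul_assoc]⟩
      · have := smul_conj (g := g⁻¹) hva
        rwa [inv_smul_eq_iff.mpr hga.symm] at this
      · have := smul_conj (g := g⁻¹) hvb
        rwa [inv_smul_eq_iff.mpr hgb.symm] at this
    · rintro ⟨w, ⟨hw, hwi⟩, rfl⟩
      obtain ⟨h1, h2⟩ := mem_two.mp hw
      refine ⟨⟨⟨hwi.conj g, a, b, Ne.symm hb, ?_, ?_⟩, ?_⟩, ?_⟩
      · exact hga ▸ smul_conj h1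
      · exact hgb ▸ smul_conj h2
      · exact hga ▸ smul_conj h1
      · exact hgb ▸ smul_conj h2
  have hfix : ∀ v ∈ Ba, {b | b ∈ {c : Ω | c ≠ a} ∧ v • b = b}.ncard = fixN Ω u - 1 := by
    intro v hv
    obtain ⟨g, hg⟩ := hS.one_class u v hu hv.1
    rw [← fixN_conj g u, hg, fixN, ← Set.ncard_sdiff_singleton_of_mem (show a ∈ {c : Ω | v • c = c} from hv.2)]
    congr 1
    ext c
    exact and_comm
  have hcount := ncard_mul_eq (S := Ba) (T := {c : Ω | c ≠ a}) (fun v b => v • b = b) hfix hNb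
  have hT : {c : Ω | c ≠ a}.ncard = Nat.card Ω - 1 := by
    rw [← Set.ncard_univ, ← Set.ncard_sdiff_singleton_of_mem (Set.mem_univ a)]
    congr 1
    ext c
    simp
  rw [hT, hn] at hcount
  have hBa : Ba.ncard = (1 + l) * N := by
    refine Nat.eq_of_mul_eq_mul_right (show 0 < fixN Ω u - 1 by have := one_lt_fixN hX hu; omega) ?_
    rw [hcount]
    ring
  -- the classes
  let C : G → Set G := fun v => (fun x => v * x) '' insert 1 (eSet Z v a)
  have hmul : ∀ v ∈ Ba, ∀ w ∈ C v, w ∈ Ba ∧ C w = C v := by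
    rintro v ⟨hv, hva⟩ w ⟨x, rfl | hx, rfl⟩
    · simp only [mul_one]
      exact ⟨⟨hv, hva⟩, trivial⟩
    have hB := isB_mul hX hv hx.1 hx.2.1
    have hwa : (v * x) • a = a := by rw [mul_smul, hx.2.2, hva]
    refine ⟨⟨hB, hwa⟩, ?_⟩
    have he : eSet Z (v * x) a = eSet Z v a := eSet_mul hX hv hx
    have hxi := hQ.inv x hx.1
    have hclosed : ∀ y ∈ insert 1 (eSet Z v a), x * y ∈ insert 1 (eSet Z v a) := by
      rintro y (rfl | hy)
      · rw [mul_one]
        exact Or.inr hx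
      rcases eq_or_ne x y with rfl | hne
      · exact Or.inl hxi.2
      refine Or.inr ⟨prod_mem hQ hx.1 hy.1 hne (commute_at hX hv hva hx hy), ?_, ?_⟩
      · exact ((show Commute v x from hx.2.1).mul_right hy.2.1).eq
      · rw [mul_smul, hy.2.2, hx.2.2]
    ext t
    constructor
    · rintro ⟨y, hy, rfl⟩
      exact ⟨x * y, hclosed y (he ▸ hy), (mul_assoc v x y).symm⟩
    · rintro ⟨y, hy, rfl⟩
      refine ⟨x * y, he.symm ▸ hclosed y hy, ?_⟩
      show v * x * (x * y) = v * y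
      rw [← mul_assoc, mul_assoc v x x, hxi.2, mul_one]
  have hself : ∀ v, v ∈ C v := fun v => ⟨1, Set.mem_insert _ _, mul_one v⟩
  set F : Finset G := (Set.toFinite Ba).toFinset with hF
  have hmem : ∀ {v}, v ∈ F ↔ v ∈ Ba := (Set.toFinite Ba).mem_toFinset
  have hfib : ∀ y ∈ F.image C, (F.filter fun v => C v = y).card = eAt Z u a + 1 := by
    intro y hy
    obtain ⟨v, hv, rfl⟩ := Finset.mem_image.mp hy
    rw [hmem] at hv
    have hset : ((F.filter fun w => C w = C v : Finset G) : Set G) = C v := by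
      ext w
      rw [Finset.coe_filter]
      constructor
      · rintro ⟨-, hw⟩
        exact hw ▸ hself w
      · intro hw
        exact ⟨hmem.mpr (hmul v hv w hw).1, (hmul v hv w hw).2⟩
    rw [← Set.ncard_coe_finset, hset, Set.ncard_image_of_injective _ (mul_right_injective v),
      Set.ncard_insert_of_notMem (fun h => (hQ.inv 1 h.1).1 rfl) (Set.toFinite _), ← eAt,
      hS.eAt_const hX hv.1 hu hv.2 hua]
  have hdvd : eAt Z u a + 1 ∣ Ba.ncard := by
    rw [Set.ncard_eq_toFinset_card Ba, ← hF, Finset.card_eq_sum_card_image C F, Finset.sum_congr rfl hfib,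
      Finset.sum_const, smul_eq_mul]
    exact dvd_mul_left _ _
  rw [hBa, hi] at hdvd
  rw [hi]
  exact (Nat.Coprime.pow_left i (Nat.coprime_two_left.mpr hNodd)).dvd_of_dvd_mul_right hdvd

end CfsgLib.Bender.Q
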