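import Cfsg.Agent.Lib.Bender.Q.Four

/-!
The case without full involutions: fusion inside a point stabiliser, commuting involutions at a point, and a transfer
to a point stabiliser.

Blueprint: `blueprint/bender/Q2.md` II.6 and END.
-/

set_option autoImplicit false
set_option linter.unusedSectionVars false
set_option linter.style.haveILetI false

universe u v

namespace CfsgLib.Bender.Q

open MulAction
open CfsgLib.Bender.TwoClosed (IsInv two mem_two smul_conj)

variable {G Ω : Type u} [Group G] [MulAction G Ω] {Z : Set G}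

/-- The second alternative of `full_or`. -/
structure Semi (G Ω : Type u) [Group G] [MulAction G Ω] (Z : Set G) : Prop where
  notFull : ∀ u : G, IsB Ω u → ¬ Full Ω Z u
  one_class : ∀ u v : G, IsB Ω u → IsB Ω v → ∃ g : G, g * u * g⁻¹ = v
  uniq : ∀ (u v : G) (a b : Ω), a ≠ b → IsInv u → IsInv v → u • a = a → u • b = b → v • a = a → v • b = b →
    u * v = v * u → u = v

variable [Finite G] [FaithfulSMul G Ω] (hX : Ctx G Ω Z)
include hX

/-- Conjugate involutions with two fixed points fixing `a` are conjugate by an element fixing `a`. -/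
theorem fuse_at {x y g : G} {a : Ω} (hy : IsB Ω y) (hxa : x • a = a) (hya : y • a = a)
    (hg : g * x * g⁻¹ = y) : ∃ h : G, h • a = a ∧ h * x * h⁻¹ = y := by
  have hQ := hX.hyp
  have hga : y • g • a = g • a := hg ▸ smul_conj hxa
  obtain ⟨c, hc, hyc, hca⟩ := exists_cent_at hQ hy.1 hya
  obtain ⟨c', hc', hyc', hca'⟩ := exists_cent_at hQ hy.1 hga
  obtain ⟨hyi, p, q, hpq, hp, hq⟩ := hy
  obtain ⟨k, hk, hke⟩ := exists_conj_cent hQ (u := y) hyi hpq hp hq hc' hyc' hc hyc
  refine ⟨k * g, ?_, ?_⟩
  · rw [mul_smul]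
    exact eq_of_fix hQ hc (hke ▸ smul_conj hca') hca
  · calc k * g * x * (k * g)⁻¹ = k * (g * x * g⁻¹) * k⁻¹ := by group
      _ = y := by rw [hg, ← hk, mul_inv_cancel_right]

/-- The fusion inside a point stabiliser when there is one class. -/
theorem Semi.fuse (hS : Semi G Ω Z) {x y : G} {a : Ω} (hx : IsB Ω x) (hy : IsB Ω y) (hxa : x • a = a)
    (hya : y • a = a) : ∃ h : G, h • a = a ∧ h * x * h⁻¹ = y := by
  obtain ⟨g, hg⟩ := hS.one_class x y hx hy
  exact fuse_at hX hy hxa hya hg

/-- All involutions with two fixed points commute with equally many members at such a point. -/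
theorem Semi.eAt_const (hS : Semi G Ω Z) {x y : G} {a : Ω} (hx : IsB Ω x) (hy : IsB Ω y) (hxa : x • a = a)
    (hya : y • a = a) : eAt Z x a = eAt Z y a := by
  obtain ⟨h, hha, hh⟩ := hS.fuse hX hx hy hxa hya
  rw [← hh]
  nth_rewrite 2 [← hha]
  exact (eAt_conj hX.hyp h x a).symm

omit [Finite G] in
theorem isB_or_mem [Finite G] {x : G} (hx : IsInv x) {a : Ω} (hxa : x • a = a) : IsB Ω x ∨ x ∈ Z := by
  by_cases h : ∀ d : Ω, x • d = d → d = a
  · exact Or.inr (mem_of_unique_fix hX.hyp hx hxa h)
  · push Not at h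
    obtain ⟨d, hd, hne⟩ := h
    exact Or.inl ⟨hx, a, d, hne.symm, hxa, hd⟩

/-- II.6: the product of two commuting involutions with two fixed points at a common point is a member. -/
theorem Semi.neighbour (hS : Semi G Ω Z) {u w : G} {a : Ω} (hu : IsB Ω u) (hw : IsB Ω w) (hua : u • a = a)
    (hwa : w • a = a) (hne : u ≠ w) (huw : u * w = w * u) : u * w ∈ Z := by
  have hQ := hX.hyp
  have hx : IsInv (u * w) := ⟨fun e => hne ((mul_eq_one_iff_eq_inv.mp e).trans hw.1.inv), by
    rw [show u * w * (u * w) = u * (w * u) * w by group, ← huw, show u * (u * w) * w = u * u * (w * w) by group,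
      hu.1.2, hw.1.2, one_mul]⟩
  have honly : ∀ d : Ω, u • d = d → w • d = d → d = a := fun d h1 h2 =>
    by_contra fun hd => hne (hS.uniq u w a d (Ne.symm hd) hu.1 hw.1 hua h1 hwa h2 huw)
  obtain ⟨h, hha, hwh⟩ := exists_fix_ne hX hw a
  have huh : u • h ≠ h := fun e => hha (honly h e hwh)
  have hwuh : w • (u • h) = u • h := by rw [← mul_smul, ← huw, mul_smul, hwh]
  obtain ⟨k, hk, hkc, -, -⟩ := hX.eq_count hu hua
  have hodd : Odd (sAt Z u h (u • h)) := by
    have hm := odd_memAt hQ a
    rw [← hk] at hm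
    rw [hkc h huh]
    exact (Nat.odd_mul.mp hm).1
  have hmaps : ∀ x : sSet Z u h (u • h), w * x.1 * w ∈ sSet Z u h (u • h) := fun x => by
    refine ⟨by have := hQ.conj _ x.2.1 w; rwa [hw.1.inv] at this, ?_, ?_⟩
    · exact (((show Commute u w from huw).mul_right x.2.2.1).mul_right huw).eq
    · rw [mul_smul, mul_smul, hwh, x.2.2.2, hwuh]
  let σ : Equiv.Perm (sSet Z u h (u • h)) := Function.Involutive.toPerm (fun x => ⟨_, hmaps x⟩) fun x => Subtype.ext (by
    show w * (w * x.1 * w) * w = x.1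
    calc w * (w * x.1 * w) * w = (w * w) * x.1 * (w * w) := by group
      _ = x.1 := by rw [hw.1.2, one_mul, mul_one])
  haveI := Fintype.ofFinite (sSet Z u h (u • h))
  haveI : Fact (Nat.Prime 2) := ⟨Nat.prime_two⟩
  obtain ⟨⟨c, hc, huc, hch⟩, hfix⟩ := Equiv.Perm.exists_fixed_point_of_prime (σ := σ) (p := 2) (n := 1) (by
    rw [← Nat.card_eq_fintype_card, Nat.card_coe_set_eq, ← even_iff_two_dvd, Nat.not_even_iff_odd]
    exact hodd) (by rw [pow_one, pow_two]; exact Equiv.ext fun x => Subtype.ext (by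
      show w * (w * x.1 * w) * w = x.1
      calc w * (w * x.1 * w) * w = (w * w) * x.1 * (w * w) := by group
        _ = x.1 := by rw [hw.1.2, one_mul, mul_one]))
  have hwc : w * c = c * w := (conj_eq_self_iff hw.1.2).mp (congrArg Subtype.val hfix)
  obtain ⟨p, hp⟩ := exists_fix hQ hc
  obtain rfl : p = a := honly p (commute_fix hQ hc hp huc) (commute_fix hQ hc hp hwc)
  have hv := isB_mul hX hu hc huc
  have hva : (u * c) • p = p := by rw [mul_smul, hp, hua]
  have hvh : (u * c) • h = h := by rw [mul_smul, hch, hu.1.smul_twice]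
  have hvw : u * c * w = w * (u * c) :=
    ((show Commute w u from huw.symm).mul_right hwc).eq.symm
  have := hS.uniq (u * c) w p h (Ne.symm hha) hv.1 hw.1 hva hvh hwa hwh hvw
  rw [← this, ← mul_assoc, hu.1.2, one_mul]
  exact hc

end CfsgLib.Bender.Q
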