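import Cfsg.Agent.Lib.Bender.Q.Semi.Base
import Cfsg.Agent.S0199

/-!
When `n - 1` is a power of two the members at a point commute: two of them generate a 2-group, so they lie in a normal
2-subgroup of the stabiliser, whose centre holds a member as there are no full involutions.

Blueprint: `blueprint/bender/Q2.md` IV.
-/

set_option autoImplicit false
set_option linter.unusedSectionVars false
set_option linter.style.haveILetI false

universe u

namespace CfsgLib.Bender.Q

open MulAction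
open CfsgLib.Bender.TwoClosed (IsInv two mem_two smul_conj)

variable {G Ω : Type u} [Group G] [MulAction G Ω] [Finite G] [FaithfulSMul G Ω] {Z : Set G} (hX : Ctx G Ω Z)
  {i : ℕ} {a : Ω} (hn : Nat.card Ω = 2 ^ i + 1)
include hX hn

/-- No element of odd order fixing `a` is inverted by a member at `a`. -/
theorem eq_one_of_inverted_at {y j : G} (hy : y ∈ Z) (hya : y • a = a) (hinv : y * j * y = j⁻¹)
    (hodd : Odd (orderOf j)) (hja : j • a = a) : j = 1 := by
  haveI := finite_points hX.hyp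
  by_contra hj1
  obtain ⟨P, hP, hPj⟩ := Nat.exists_prime_and_dvd (fun e => hj1 (orderOf_eq_one_iff.mp e) : orderOf j ≠ 1)
  haveI := Fact.mk hP
  set z := j ^ (orderOf j / P)
  have hz : orderOf z = P := orderOf_pow_orderOf_div (orderOf_pos j).ne' hPj
  have hP2 : P ≠ 2 := fun e => Nat.not_even_iff_odd.mpr hodd (even_iff_two_dvd.mpr (e ▸ hPj))
  have hza : z • a = a := mem_stabilizer_iff.mp (pow_mem (mem_stabilizer_iff.mpr hja) _)
  have hpg : IsPGroup P (Subgroup.zpowers z) := IsPGroup.of_card (n := 1) (by rw [Nat.card_zpowers, hz, pow_one])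
  obtain ⟨b, hb, hzb⟩ : ∃ b : Ω, b ≠ a ∧ z • b = b := by
    by_contra hne
    push Not at hne
    have hfix : MulAction.fixedPoints (Subgroup.zpowers z) Ω = {a} := by
      ext x
      constructor
      · exact fun hx => by_contra fun hxa => hne x hxa (hx ⟨z, Subgroup.mem_zpowers z⟩)
      · rintro rfl g
        exact fix_of_zpowers hza g g.2
    have h := hpg.card_modEq_card_fixedPoints Ω
    rw [hfix, hn, Nat.card_coe_set_eq, Set.ncard_singleton] at h
    have h' := (Nat.modEq_iff_dvd' (Nat.le_add_left 1 _)).mp h.symm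
    rw [Nat.add_sub_cancel] at h'
    exact hP2 ((Nat.prime_dvd_prime_iff_eq hP Nat.prime_two).mp (hP.dvd_of_dvd_pow h'))
  have h1 := hX.noBad y hy z a b hya (inv_conj_pow (hX.hyp.inv y hy).2 hinv _)
    (hodd.of_dvd_nat (orderOf_pow_dvd _)) hza hb hzb
  rw [h1, orderOf_one] at hz
  exact hP.one_lt.ne hz

/-- Two members at `a` generate a 2-group. -/
theorem two_group_pair {y z : G} (hy : y ∈ Z) (hya : y • a = a) (hz : z ∈ Z) (hza : z • a = a) :
    IsPGroup 2 (Subgroup.closure ({y, z} : Set G)) := by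
  have hQ := hX.hyp
  have hyi := hQ.inv y hy
  have hzi := hQ.inv z hz
  obtain ⟨v, w, hw, hvw⟩ := Nat.exists_eq_two_pow_mul_odd (orderOf_pos (y * z)).ne'
  have hj : (y * z) ^ 2 ^ v = 1 := by
    refine eq_one_of_inverted_at hX hn hy hya (inv_conj_pow hyi.2 ?_ _) ?_
      (mem_stabilizer_iff.mp (pow_mem (mem_stabilizer_iff.mpr (by rw [mul_smul, hza, hya])) _))
    · rw [mul_inv_rev, hyi.inv, hzi.inv, ← mul_assoc y y, hyi.2, one_mul]
    · rw [orderOf_pow, hvw, Nat.gcd_eq_right (dvd_mul_right _ _), Nat.mul_div_cancel_left _ (by positivity)]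
      exact hw
  rintro ⟨d, hd⟩
  obtain ⟨k, hk | hk⟩ := CfsgLib.Involutions.mem_closure_pair hyi.2 hzi.2 hd
  · refine ⟨v, Subtype.ext ?_⟩
    show d ^ 2 ^ v = 1
    rw [hk, ← zpow_natCast, ← zpow_mul, mul_comm k, zpow_mul, zpow_natCast, hj, one_zpow]
  · refine ⟨1, Subtype.ext ?_⟩
    show d ^ 2 ^ 1 = 1
    rw [hk, pow_one, pow_two]
    calc y * (y * z) ^ k * (y * (y * z) ^ k) = (y * (y * z) ^ k * y⁻¹) * (y * z) ^ k := by rw [hyi.inv]; group
      _ = 1 := by rw [CfsgLib.Involutions.conj_zpow_eq_inv hyi.2 hzi.2, ← zpow_add, neg_add_cancel, zpow_zero]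

/-- All members at `a` commute. -/
theorem Semi.commute_members (hS : Semi G Ω Z) {x y : G} (hx : x ∈ Z) (hxa : x • a = a) (hy : y ∈ Z)
    (hya : y • a = a) : x * y = y * x := by
  have hQ := hX.hyp
  haveI : Fact (Nat.Prime 2) := ⟨Nat.prime_two⟩
  set M := stabilizer G a
  have hatM : ∀ {z w : G}, z ∈ Z → z • a = a → w ∈ Z → w • a = a → ∃ g ∈ M, g * z * g⁻¹ = w := by
    intro z w hz hza hw hwa
    obtain ⟨g, hg⟩ := exists_conj hQ hz hw
    exact ⟨g, mem_stabilizer_iff.mpr (eq_of_fix hQ hw (hg ▸ smul_conj hza) hwa), hg⟩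
  obtain ⟨N, hNn, hN2, hxN⟩ := Cfsg.Agent.S0199.result (p := 2) (Subgroup.zpowers (⟨x, hxa⟩ : M))
    (isPGroup_zpowers ⟨fun e => (hQ.inv x hx).1 (congrArg Subtype.val e), Subtype.ext (hQ.inv x hx).2⟩) (fun g => by
      have hle : (Subgroup.zpowers (⟨x, hxa⟩ : M) ⊔
          (Subgroup.zpowers (⟨x, hxa⟩ : M)).map (MulAut.conj g).toMonoidHom).map M.subtype ≤
            Subgroup.closure ({x, (g : G) * x * (g : G)⁻¹} : Set G) := by
        rw [Subgroup.map_sup, MonoidHom.map_zpowers, Subgroup.map_map, MonoidHom.map_zpowers]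
        exact sup_le (Subgroup.zpowers_le.mpr (Subgroup.subset_closure (Or.inl rfl)))
          (Subgroup.zpowers_le.mpr (Subgroup.subset_closure (Or.inr rfl)))
      have h2 := (two_group_pair hX hn hx hxa (hQ.conj x hx (g : G))
        (by have := smul_conj (g := (g : G)) hxa; rwa [mem_stabilizer_iff.mp g.2] at this)).to_le hle
      exact h2.of_equiv (Subgroup.equivMapOfInjective _ M.subtype M.subtype_injective).symm)
  have hall : ∀ {z : G}, z ∈ Z → (hza : z • a = a) → (⟨z, hza⟩ : M) ∈ N := fun {z} hz hza => by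
    obtain ⟨g, hgM, hg⟩ := hatM hx hxa hz hza
    have := hNn.conj_mem _ (hxN (Subgroup.mem_zpowers _)) ⟨g, hgM⟩
    rwa [show (⟨g, hgM⟩ : M) * ⟨x, hxa⟩ * (⟨g, hgM⟩ : M)⁻¹ = ⟨z, hza⟩ from Subtype.ext hg] at this
  haveI : Nontrivial N := ⟨⟨⟨_, hall hx hxa⟩, 1, fun e =>
    (hQ.inv x hx).1 (congrArg (fun t : N => ((t : M) : G)) e)⟩⟩
  haveI := hN2.center_nontrivial
  obtain ⟨k, hk⟩ := IsPGroup.iff_card.mp (hN2.to_subgroup (Subgroup.center N))
  obtain ⟨c, hc⟩ := exists_prime_orderOf_dvd_card' (G := Subgroup.center N) 2 (by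
    rw [hk]
    refine dvd_pow_self 2 fun k0 => ?_
    rw [k0, pow_zero] at hk
    exact absurd hk Finite.one_lt_card.ne')
  obtain ⟨hc2, hc1⟩ := CfsgLib.Involutions.orderOf_eq_two_iff'.mp hc
  set t : G := (((c : N) : M) : G)
  have hti : IsInv t := ⟨fun e => hc1 (Subtype.ext (Subtype.ext (Subtype.ext e))),
    congrArg (fun w : Subgroup.center N => (((w : N) : M) : G)) hc2⟩
  have hta : t • a = a := mem_stabilizer_iff.mp ((c : N) : M).2
  have hcent : ∀ {z : G}, z ∈ Z → z • a = a → t * z = z * t := fun {z} hz hza =>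
    congrArg (fun w : N => ((w : M) : G)) (Subgroup.mem_center_iff.mp c.2 ⟨_, hall hz hza⟩).symm
  rcases isB_or_mem hX hti hta with htB | htZ
  · refine absurd ((full_iff hX htB hta).mpr ?_) (hS.notFull t htB)
    rw [eAt, eSet, show Nat.card (MemAt Z a) = {z : G | z ∈ Z ∧ z • a = a}.ncard from Nat.card_coe_set_eq _]
    congr 1
    ext z
    exact ⟨fun h => ⟨h.1, h.2.2⟩, fun h => ⟨h.1, hcent h.1 h.2, h.2⟩⟩
  · obtain ⟨g, hgM, hg⟩ := hatM htZ hta hx hxa
    have h := hcent (z := g⁻¹ * y * g⁻¹⁻¹) (hQ.conj y hy _) (by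
      rw [mul_smul, mul_smul, inv_inv, mem_stabilizer_iff.mp hgM, hya, inv_smul_eq_iff, mem_stabilizer_iff.mp hgM])
    rw [← hg]
    calc g * t * g⁻¹ * y = g * (t * (g⁻¹ * y * g⁻¹⁻¹)) * g⁻¹ := by group
      _ = g * ((g⁻¹ * y * g⁻¹⁻¹) * t) * g⁻¹ := by rw [h]
      _ = y * (g * t * g⁻¹) := by group

end CfsgLib.Bender.Q
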