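import Cfsg.Agent.Lib.Bender.Q.Semi.Base

/-!
END: a homomorphism of a point stabiliser into a commutative group which kills the members but not the involutions with
two fixed points is impossible, as the transfer of it would kill the generating members.

Blueprint: `blueprint/bender/Q2.md` END.
-/

set_option autoImplicit false
set_option linter.unusedSectionVars false
set_option linter.style.haveILetI false

universe u v

namespace CfsgLib.Bender.Q

open MulAction
open CfsgLib.Bender.TwoClosed (IsInv two mem_two smul_conj)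

variable {G Ω : Type u} [Group G] [MulAction G Ω] [Finite G] [FaithfulSMul G Ω] {Z : Set G}

omit [Finite G] [FaithfulSMul G Ω] in
theorem fixN_parity [Finite Ω] {x : G} (hx : IsInv x) : fixN Ω x ≡ Nat.card Ω [MOD 2] := by
  classical
  haveI : Fact (Nat.Prime 2) := ⟨Nat.prime_two⟩
  haveI := Fintype.ofFinite Ω
  have h := Equiv.Perm.card_compl_support_modEq (p := 2) (n := 1) (σ := (MulAction.toPerm x : Equiv.Perm Ω)) (by
    rw [pow_one, pow_two]
    exact Equiv.ext fun c => hx.smul_twice c)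
  rw [fixN, Set.ncard_eq_toFinset_card _ (Set.toFinite _), Nat.card_eq_fintype_card]
  rw [show (Set.toFinite {c : Ω | x • c = c}).toFinset = (MulAction.toPerm x : Equiv.Perm Ω).supportᶜ from by
    ext c; simp [Equiv.Perm.mem_support]]
  exact h

/-- END. -/
theorem false_of_hom (hX : Ctx G Ω Z) {a : Ω} {A : Type v} [CommGroup A] (χ : stabilizer G a →* A)
    (hZ : ∀ z ∈ Z, ∀ h : z • a = a, χ ⟨z, h⟩ = 1) {u : G} (hu : IsB Ω u) (hua : u • a = a)
    (hcls : ∀ v : G, IsB Ω v → ∃ g : G, g * u * g⁻¹ = v) (hne : χ ⟨u, hua⟩ ≠ 1) : False := by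
  classical
  have hQ := hX.hyp
  haveI := finite_points hQ
  haveI := Fintype.ofFinite Ω
  haveI := pretransitive hQ
  choose r hr using fun c : Ω => exists_smul_eq G a c
  have hmem : ∀ (g : G) (c : Ω), ((r (g • c))⁻¹ * g * r c) • a = a := fun g c => by
    rw [mul_smul, mul_smul, hr c, inv_smul_eq_iff, hr]
  let τ : G → Ω → stabilizer G a := fun g c => ⟨_, hmem g c⟩
  have hτ : ∀ g h c, τ (g * h) c = τ g (h • c) * τ h c := fun g h c => Subtype.ext (by
    show (r ((g * h) • c))⁻¹ * (g * h) * r c = (r (g • h • c))⁻¹ * g * r (h • c) * ((r (h • c))⁻¹ * h * r c)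
    rw [mul_smul]; group)
  let V : G →* A :=
    { toFun := fun g => ∏ c, χ (τ g c)
      map_one' := Finset.prod_eq_one fun c _ => by
        rw [show τ 1 c = 1 from Subtype.ext (show (r ((1 : G) • c))⁻¹ * 1 * r c = 1 by simp), map_one]
      map_mul' := fun g h => by
        simp only [hτ, map_mul, Finset.prod_mul_distrib]
        congr 1
        exact Equiv.prod_comp (MulAction.toPerm h) (fun c => χ (τ g c)) }
  have hinvol : ∀ x : G, IsInv x → V x = ∏ c ∈ Finset.univ.filter (fun c => x • c = c), χ (τ x c) := by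
    intro x hx
    show ∏ c, χ (τ x c) = _
    rw [← Finset.prod_filter_mul_prod_filter_not Finset.univ (fun c => x • c = c)]
    convert mul_one _
    refine Finset.prod_involution (fun c _ => x • c) (fun c _ => ?_) (fun c hc _ => (Finset.mem_filter.mp hc).2)
      (fun c hc => ?_) (fun c _ => hx.smul_twice c)
    · rw [← map_mul, show τ x c * τ x (x • c) = 1 from Subtype.ext ?_, map_one]
      show (r (x • c))⁻¹ * x * r c * ((r (x • x • c))⁻¹ * x * r (x • c)) = 1
      rw [hx.smul_twice, show (r (x • c))⁻¹ * x * r c * ((r c)⁻¹ * x * r (x • c)) = (r (x • c))⁻¹ * (x * x) * r (x • c) by group,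
        hx.2, mul_one, inv_mul_cancel]
    · refine Finset.mem_filter.mpr ⟨Finset.mem_univ _, fun e => (Finset.mem_filter.mp hc).2 ?_⟩
      rwa [hx.smul_twice, eq_comm] at e
  have hτfix : ∀ x c, x • c = c → (τ x c : G) = (r c)⁻¹ * x * (r c)⁻¹⁻¹ := fun x c h => by
    show (r (x • c))⁻¹ * x * r c = _
    rw [h, inv_inv]
  have hVZ : ∀ z ∈ Z, V z = 1 := fun z hz => by
    rw [hinvol z (hQ.inv z hz)]
    refine Finset.prod_eq_one fun c hc => ?_
    have e := hτfix z c (Finset.mem_filter.mp hc).2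
    have := hZ _ (e ▸ hQ.conj z hz _) (τ z c).2
    exact this
  have hVu : V u = χ ⟨u, hua⟩ ^ fixN Ω u := by
    rw [hinvol u hu.1, Finset.prod_congr rfl (g := fun _ => χ ⟨u, hua⟩) fun c hc => ?_, Finset.prod_const]
    · congr 1
      rw [fixN, Set.ncard_eq_toFinset_card _ (Set.toFinite _)]
      congr 1
      ext x
      simp
    · have e := hτfix u c (Finset.mem_filter.mp hc).2
      obtain ⟨g, hg⟩ := hcls (τ u c : G) (e ▸ hu.conj _)
      obtain ⟨h, hha, hh⟩ := fuse_at hX (e ▸ hu.conj _) hua (τ u c).2 hg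
      have : τ u c = (⟨h, hha⟩ : stabilizer G a) * ⟨u, hua⟩ * (⟨h, hha⟩ : stabilizer G a)⁻¹ := Subtype.ext hh.symm
      rw [this, map_mul, map_mul, map_inv, mul_inv_cancel_comm]
  have hodd : Odd (fixN Ω u) := by
    obtain ⟨z, hz, hza⟩ := hQ.exists_at a
    have h1 : fixN Ω z = 1 := by
      rw [fixN, Set.ncard_eq_one]
      exact ⟨a, Set.eq_singleton_iff_unique_mem.mpr ⟨hza, fun x hx => eq_of_fix hQ hz hx hza⟩⟩
    have h2 : fixN Ω u ≡ 1 [MOD 2] :=
      (fixN_parity hu.1).trans (h1 ▸ (fixN_parity (Ω := Ω) (hQ.inv z hz)).symm)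
    exact Nat.odd_iff.mpr h2
  have hker : Subgroup.closure Z ≤ V.ker := (Subgroup.closure_le _).mpr hVZ
  rw [hX.gen] at hker
  have h1 : V u = 1 := hker (Subgroup.mem_top u)
  obtain ⟨i, hi⟩ := hodd
  have h2 : χ ⟨u, hua⟩ * χ ⟨u, hua⟩ = 1 := by
    rw [← map_mul, show (⟨u, hua⟩ : stabilizer G a) * ⟨u, hua⟩ = 1 from Subtype.ext hu.1.2, map_one]
  rw [hVu, hi, pow_succ, pow_mul, pow_two, h2, one_pow, one_mul] at h1
  exact hne h1

end CfsgLib.Bender.Q
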