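import Cfsg.Agent.Lib.Bender.Q.Semi.Elementary
import Cfsg.Agent.Lib.Bender.Q.Semi.Transfer

/-!
When the members at `a` and the identity act regularly on the other points, the stabiliser of `a` maps onto that of
`a` and `b` with the members in the kernel, so a Sylow 2-subgroup of the latter is not cyclic.

Blueprint: `blueprint/bender/Q2.md` IV.2.
-/

set_option autoImplicit false
set_option linter.unusedSectionVars false
set_option linter.style.haveILetI false

universe u

namespace CfsgLib.Bender.Q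

open MulAction
open CfsgLib.Bender.TwoClosed (IsInv two mem_two smul_conj)

variable {G Ω : Type u} [Group G] [MulAction G Ω] [Finite G] [FaithfulSMul G Ω] {Z : Set G} (hX : Ctx G Ω Z)
  (hS : Semi G Ω Z) {i : ℕ} {a b : Ω} (hn : Nat.card Ω = 2 ^ i + 1)
  (hm : Nat.card (MemAt Z a) + 1 = Nat.card Ω - 1) (hb : b ≠ a)
include hX hS hn hm hb

/-- The projection of the stabiliser of `a` to the stabiliser of `a` and `b`. -/
theorem exists_retraction : ∃ π : stabilizer G a →* (two a b : Subgroup G),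
    (∀ z ∈ Z, ∀ h : z • a = a, π ⟨z, h⟩ = 1) ∧
      ∀ (g : G) (h : g • a = a) (h' : g ∈ (two a b : Subgroup G)), π ⟨g, h⟩ = ⟨g, h'⟩ := by
  classical
  have hQ := hX.hyp
  haveI := finite_points hQ
  set M : Set G := {z | z ∈ Z ∧ z • a = a}
  set E : Set G := insert 1 M
  have hEa : ∀ e ∈ E, e • a = a := by
    rintro e (rfl | he)
    · exact one_smul _ _
    · exact he.2
  have hinj : Set.InjOn (fun e : G => e • b) E := by
    intro x hx y hy h
    rcases hx with rfl | hx <;> rcases hy with rfl | hy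
    · rfl
    · simp only [one_smul] at h
      exact absurd (eq_of_fix hQ hy.1 hy.2 h.symm).symm hb
    · simp only [one_smul] at h
      exact absurd (eq_of_fix hQ hx.1 hx.2 h).symm hb
    · exact hX.eq_of_fix_two hx.1 hy.1 hx.2 hy.2 hb h
  have himg : (fun e : G => e • b) '' E = {c : Ω | c ≠ a} := by
    refine Set.eq_of_subset_of_ncard_le ?_ ?_ (Set.toFinite _)
    · rintro _ ⟨e, he, rfl⟩ h
      exact hb (smul_left_cancel e (h.trans (hEa e he).symm))
    · rw [hinj.ncard_image, Set.ncard_insert_of_notMem (fun h => (hQ.inv 1 h.1).1 rfl) (Set.toFinite _),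
        ← Nat.card_coe_set_eq M]
      have hT : {c : Ω | c ≠ a}.ncard = Nat.card Ω - 1 := by
        rw [← Set.ncard_univ, ← Set.ncard_sdiff_singleton_of_mem (Set.mem_univ a)]
        congr 1
        ext c
        simp
      rw [hT, ← hm]
      exact le_of_eq rfl
  have hmul : ∀ x ∈ E, ∀ y ∈ E, x * y ∈ E := by
    rintro x (rfl | hx) y (rfl | hy)
    · simp [E]
    · rw [one_mul]; exact Or.inr hy
    · rw [mul_one]; exact Or.inr hx
    · rcases eq_or_ne x y with rfl | hne
      · exact Or.inl (hQ.inv x hx.1).2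
      · exact Or.inr ⟨prod_mem hQ hx.1 hy.1 hne (hS.commute_members hX hn hx.1 hx.2 hy.1 hy.2),
          by rw [mul_smul, hy.2, hx.2]⟩
  have hconj : ∀ (d : G), d • a = a → ∀ e ∈ E, d * e * d⁻¹ ∈ E := by
    rintro d hd e (rfl | he)
    · simp [E]
    · refine Or.inr ⟨hQ.conj e he.1 d, ?_⟩
      have := smul_conj (g := d) he.2
      rwa [hd] at this
  have hex : ∀ g : stabilizer G a, ∃ e ∈ E, e • b = (g : G) • b := fun g => by
    have : (g : G) • b ∈ {c : Ω | c ≠ a} := fun h =>
      hb (smul_left_cancel (g : G) (h.trans (mem_stabilizer_iff.mp g.2).symm))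
    rwa [← himg] at this
  choose ε hεE hεb using hex
  have huniq : ∀ (g : stabilizer G a) (e : G), e ∈ E → e • b = (g : G) • b → ε g = e := fun g e he h =>
    hinj (hεE g) he ((hεb g).trans h.symm)
  have hd : ∀ g : stabilizer G a, (ε g)⁻¹ * (g : G) ∈ (two a b : Subgroup G) := fun g =>
    mem_two.mpr ⟨by rw [mul_smul, mem_stabilizer_iff.mp g.2, inv_smul_eq_iff, hEa _ (hεE g)],
      by rw [mul_smul, inv_smul_eq_iff, hεb]⟩
  refine ⟨MonoidHom.mk' (fun g => ⟨_, hd g⟩) fun g h => Subtype.ext ?_, fun z hz hza => Subtype.ext ?_,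
    fun g hga hg => Subtype.ext ?_⟩
  · show (ε (g * h))⁻¹ * ((g : G) * h) = (ε g)⁻¹ * g * ((ε h)⁻¹ * h)
    obtain ⟨hda, hdb⟩ := mem_two.mp (hd g)
    rw [huniq (g * h) (ε g * ((ε g)⁻¹ * g * ε h * ((ε g)⁻¹ * g)⁻¹))
      (hmul _ (hεE g) _ (hconj _ hda _ (hεE h)))]
    · group
    · rw [mul_smul, mul_smul, inv_smul_eq_iff.mpr hdb.symm, mul_smul, hεb, ← mul_smul, ← mul_smul]
      congr 1
      show ε g * ((ε g)⁻¹ * g) * h = (g : G) * h
      group
  · show (ε _)⁻¹ * z = 1
    rw [huniq ⟨z, hza⟩ z (Or.inr ⟨hz, hza⟩) rfl, inv_mul_cancel]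
  · show (ε _)⁻¹ * g = g
    rw [huniq ⟨g, hga⟩ 1 (Set.mem_insert _ _) (by rw [one_smul]; exact (mem_two.mp hg).2.symm), inv_one, one_mul]

/-- A Sylow 2-subgroup of the stabiliser of two points is not cyclic. -/
theorem false_of_cyclic {u : G} (hu : IsB Ω u) (hua : u • a = a) (hub : u • b = b)
    (T : Sylow 2 (two a b : Subgroup G)) (huT : (⟨u, mem_two.mpr ⟨hua, hub⟩⟩ : (two a b : Subgroup G)) ∈ T)
    (hT : IsCyclic T) : False := by
  haveI : Fact (Nat.Prime 2) := ⟨Nat.prime_two⟩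
  obtain ⟨π, hπZ, hπD⟩ := exists_retraction hX hS hn hm hb
  obtain ⟨u', hu'⟩ : ∃ w : (two a b : Subgroup G), w = ⟨u, mem_two.mpr ⟨hua, hub⟩⟩ := ⟨_, rfl⟩
  rw [← hu'] at huT
  have hord : orderOf u' = 2 := orderOf_eq_prime (by rw [pow_two, hu']; exact Subtype.ext hu.1.2)
    fun e => hu.1.1 (by rw [hu'] at e; exact congrArg Subtype.val e)
  have hmin : (Nat.card (two a b : Subgroup G)).minFac = 2 := Nat.minFac_eq_two_iff _ |>.mpr (hord ▸ orderOf_dvd_natCard u')
  letI := hT
  letI iA : CommGroup T := IsCyclic.commGroup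
  set τ := MonoidHom.transferSylow T (IsCyclic.normalizer_le_centralizer hmin hT) with hτ
  refine false_of_hom hX (A := T) (τ.comp π) (fun z hz h => by rw [MonoidHom.comp_apply, hπZ z hz h, map_one]) hu hua
    (fun v hv => hS.one_class u v hu hv) fun e => ?_
  rw [MonoidHom.comp_apply, hπD u hua (mem_two.mpr ⟨hua, hub⟩), ← hu', hτ,
    MonoidHom.transferSylow_eq_pow T _ u' huT] at e
  have h := congrArg Subtype.val e
  refine T.not_dvd_index ?_
  have h1 := orderOf_dvd_of_pow_eq_one h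
  rwa [hord] at h1

end CfsgLib.Bender.Q
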